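import Cfsg.Agent.Lib.M22Nse57.IdentifyAct

/-!
An action on twenty-four points of a simple group of order 244823040 with small centralisers of
elements of order 5, 7, 11: it is four-transitive and involutions fix at most eight points.
-/

set_option autoImplicit false

open Finset
open scoped Classical

namespace Cfsg.Agent.Lib.M24Nse52

open Cfsg.Agent.Lib.M22Nse57 (fix mem_fix fix_conj fix_modEq sum_desc class_sum_le)

universe u v

/-- The local facts needed to recognise the Mathieu group of degree 24 from a permutation action. -/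
structure Local (G : Type u) [Group G] : Prop where
  card : Nat.card G = 244823040
  simple : IsSimpleGroup G
  cent5 : ∀ y : G, orderOf y = 5 → Nat.card (Subgroup.centralizer ({y} : Set G)) ≤ 60
  cent7 : ∀ y : G, orderOf y = 7 → Nat.card (Subgroup.centralizer ({y} : Set G)) ≤ 89
  cent11 : ∀ y : G, orderOf y = 11 → Nat.card (Subgroup.centralizer ({y} : Set G)) ≤ 12

variable {G : Type u} [Group G] {X : Type v} [MulAction G X]

/-- A faithful transitive action on twenty-four points. -/
structure Act (G : Type u) [Group G] (X : Type v) [MulAction G X] : Prop where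
  loc : Local G
  card : Nat.card X = 24
  trans : MulAction.IsPretransitive G X
  faithful : ∀ g : G, (∀ x : X, g • x = x) → g = 1

/-- A transitive group on `k`-tuples whose tuple stabilisers are transitive on the other points is
transitive on `k+1`-tuples. -/
theorem trans_succ {k : ℕ} (hk : MulAction.IsMultiplyPretransitive G X k)
    (h : ∀ (e : Fin k ↪ X) (b c : X), (∀ i, e i ≠ b) → (∀ i, e i ≠ c) →
      ∃ g : G, g • e = e ∧ g • b = c) :
    MulAction.IsMultiplyPretransitive G X (k + 1) := by
  refine ⟨fun x y => ?_⟩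
  haveI : MulAction.IsPretransitive G (Fin k ↪ X) := hk
  let x' : Fin k ↪ X := Fin.castSuccEmb.trans x
  let y' : Fin k ↪ X := Fin.castSuccEmb.trans y
  obtain ⟨g, hg⟩ := MulAction.exists_smul_eq G x' y'
  have hgi : ∀ i : Fin k, g • x i.castSucc = y i.castSucc := fun i => DFunLike.congr_fun hg i
  obtain ⟨g', h1, h2⟩ := h y' (g • x (Fin.last k)) (y (Fin.last k))
    (fun i e => (Fin.castSucc_lt_last i).ne
      (x.injective (smul_left_cancel g ((hgi i).trans e))))
    (fun i e => (Fin.castSucc_lt_last i).ne (y.injective e))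
  refine ⟨g' * g, DFunLike.ext _ _ fun i => ?_⟩
  show (g' * g) • x i = y i
  refine Fin.lastCases ?_ (fun j => ?_) i
  · rw [mul_smul, h2]
  · rw [mul_smul, hgi]
    exact DFunLike.congr_fun h1 j

namespace Act

variable [Fintype G] [Fintype X] (D : Act G X)
include D

theorem cardG : Fintype.card G = 244823040 := by rw [← Nat.card_eq_fintype_card, D.loc.card]

theorem cardX : Fintype.card X = 24 := by rw [← Nat.card_eq_fintype_card, D.card]

theorem card_univ24 : (univ : Finset X).card = 24 := by rw [Finset.card_univ, D.cardX]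

theorem fix_lt {g : G} (hg : g ≠ 1) : (fix (X := X) g).card < 24 := by
  refine lt_of_le_of_ne (D.card_univ24 ▸ card_le_univ _) fun h => hg <|
    D.faithful g fun x => mem_fix.1 ((eq_univ_of_card _ (by rw [h, D.cardX]) :
      fix (X := X) g = univ) ▸ mem_univ x)

theorem fix_mod {g : G} {p : ℕ} (hp : p.Prime) (hg : orderOf g = p) :
    24 ≡ (fix (X := X) g).card [MOD p] := by
  have h := fix_modEq hp 1 g (univ : Finset X) (fun _ _ => mem_univ _)
    (fun x _ => by rw [pow_one, ← hg, pow_orderOf_eq_one, one_smul])
  rwa [D.card_univ24] at h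

theorem ne_one {g : G} {p : ℕ} (hp : p.Prime) (hg : orderOf g = p) : g ≠ 1 := fun e => by
  rw [e, orderOf_one] at hg; exact hp.ne_one hg.symm

theorem desc_le_cent {k : ℕ} (hk : MulAction.IsMultiplyPretransitive G X k) (hk' : k ≤ 24)
    (g : G) :
    (fix (X := X) g).card.descFactorial k ≤ Nat.card (Subgroup.centralizer ({g} : Set G)) := by
  have h := class_sum_le g univ (fun _ => mem_univ _)
    (fun y => (fix (X := X) y).card.descFactorial k) fun h => by simp only [fix_conj]
  rw [sum_desc hk (by rw [D.cardX]; exact hk'), mul_comm (Nat.card _)] at h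
  exact Nat.le_of_mul_le_mul_left h Fintype.card_pos

theorem card_stab {k : ℕ} (hk : MulAction.IsMultiplyPretransitive G X k) (e : Fin k ↪ X) :
    Nat.card (MulAction.stabilizer G e) * (24).descFactorial k = 244823040 := by
  haveI : MulAction.IsPretransitive G (Fin k ↪ X) := hk
  have h := (MulAction.stabilizer G e).card_mul_index
  rwa [MulAction.index_stabilizer_of_transitive, Nat.card_eq_fintype_card (α := Fin k ↪ X),
    Fintype.card_embedding_eq, Fintype.card_fin, D.cardX, D.loc.card] at h

/-- The orbit step: elements of two prime orders in a tuple stabiliser. -/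
theorem step {k : ℕ} (hk : MulAction.IsMultiplyPretransitive G X k) {p q : ℕ} (hp : p.Prime)
    (hq : q.Prime) (hdp : p ∣ Nat.card G / (24).descFactorial k)
    (hdq : q ∣ Nat.card G / (24).descFactorial k)
    (hfp : ∀ g : G, orderOf g = p → (fix (X := X) g).card = k)
    (hfq : ∀ g : G, orderOf g = q → (fix (X := X) g).card ≤ k + 1)
    (hn : ∀ n, 0 < n → n + k ≤ 24 → n % p = 0 → n % q ≤ 1 → n + k = 24) :
    MulAction.IsMultiplyPretransitive G X (k + 1) := by
  refine trans_succ hk fun e b c hb hc => ?_
  have hpos : 0 < (24).descFactorial k := by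
    refine Nat.pos_of_ne_zero fun h0 => ?_
    have := D.card_stab hk e
    rw [h0, mul_zero] at this
    norm_num at this
  have hS : Nat.card (MulAction.stabilizer G e) = Nat.card G / (24).descFactorial k := by
    rw [D.loc.card, ← D.card_stab hk e, Nat.mul_div_cancel _ hpos]
  haveI := Fact.mk hp
  haveI := Fact.mk hq
  obtain ⟨y, hy⟩ := exists_prime_orderOf_dvd_card' (G := MulAction.stabilizer G e) p (hS ▸ hdp)
  obtain ⟨z, hz⟩ := exists_prime_orderOf_dvd_card' (G := MulAction.stabilizer G e) q (hS ▸ hdq)
  set E : Finset X := univ.map e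
  have hE : E.card = k := by simp [E]
  let O : Finset X := univ.filter fun x => ∃ g : G, g • e = e ∧ g • b = x
  have hO : ∀ w : MulAction.stabilizer G e, ∀ x ∈ O, (w : G) • x ∈ O := fun w x hx => by
    obtain ⟨g, h1, h2⟩ := (mem_filter.1 hx).2
    exact mem_filter.2 ⟨mem_univ _, w.1 * g, by rw [mul_smul, h1]; exact w.2,
      by rw [mul_smul, h2]⟩
  have hdis : Disjoint O E := disjoint_left.2 fun x hx hxE => by
    obtain ⟨g, h1, h2⟩ := (mem_filter.1 hx).2
    obtain ⟨i, -, rfl⟩ := mem_map.1 hxE
    exact hb i (smul_left_cancel g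
      ((show g • e i = e i from DFunLike.congr_fun h1 i).trans h2.symm))
  have hfix : ∀ w : MulAction.stabilizer G e,
      (O.filter fun x => (w : G) • x = x).card + k ≤ (fix (X := X) (w : G)).card := fun w => by
    refine le_trans (le_of_eq (congrArg ((O.filter fun x => (w : G) • x = x).card + ·) hE.symm)) ?_
    rw [← card_union_of_disjoint (hdis.mono_left (filter_subset _ _))]
    refine card_le_card fun x hx => mem_fix.2 ?_
    rcases mem_union.1 hx with h | h
    · exact (mem_filter.1 h).2
    · obtain ⟨i, -, rfl⟩ := mem_map.1 h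
      exact DFunLike.congr_fun (w.2 : (w : G) • e = e) i
  have hy' : orderOf (y : G) = p := by rw [Subgroup.orderOf_coe]; exact hy
  have hz' : orderOf (z : G) = q := by rw [Subgroup.orderOf_coe]; exact hz
  have mp := fix_modEq hp 1 (y : G) O (hO y)
    fun x _ => by rw [pow_one, ← hy', pow_orderOf_eq_one, one_smul]
  have mq := fix_modEq hq 1 (z : G) O (hO z)
    fun x _ => by rw [pow_one, ← hz', pow_orderOf_eq_one, one_smul]
  have f1 := hfix y
  have f2 := hfix z
  rw [hfp _ hy'] at f1
  have f2' := f2.trans (hfq _ hz')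
  have hbO : 0 < O.card :=
    card_pos.2 ⟨b, mem_filter.2 ⟨mem_univ _, 1, one_smul G e, one_smul G b⟩⟩
  have hle : O.card + k ≤ 24 := by
    rw [← hE, ← card_union_of_disjoint hdis, ← D.card_univ24]; exact card_le_univ _
  unfold Nat.ModEq at mp mq
  have hOp : O.card % p = 0 := by
    rw [mp, show (O.filter fun x => (y : G) • x = x).card = 0 by omega, Nat.zero_mod]
  have hOq : O.card % q ≤ 1 := by
    rw [mq]; exact (Nat.mod_le _ _).trans (by omega)
  have hall : O ∪ E = univ := eq_univ_of_card _ (by
    rw [card_union_of_disjoint hdis, hE, hn _ hbO hle hOp hOq, D.cardX])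
  rcases mem_union.1 (hall ▸ mem_univ c : c ∈ O ∪ E) with h | h
  · exact (mem_filter.1 h).2
  · obtain ⟨i, -, e'⟩ := mem_map.1 h
    exact absurd e' (hc i)

theorem one_trans : MulAction.IsMultiplyPretransitive G X 1 :=
  MulAction.is_one_pretransitive_iff.2 D.trans

theorem fix_twentythree {g : G} (hg : orderOf g = 23) : (fix (X := X) g).card = 1 := by
  have hp : Nat.Prime 23 := by norm_num
  have hm := D.fix_mod hp hg
  have hl := D.fix_lt (D.ne_one hp hg)
  unfold Nat.ModEq at hm
  omega

theorem fix_eleven {g : G} (hg : orderOf g = 11) : (fix (X := X) g).card = 2 := by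
  have hp : Nat.Prime 11 := by norm_num
  have hm := D.fix_mod hp hg
  have hl := D.fix_lt (D.ne_one hp hg)
  have hc := (D.desc_le_cent D.one_trans (by norm_num) g).trans (D.loc.cent11 g hg)
  rw [Nat.descFactorial_one] at hc
  unfold Nat.ModEq at hm
  omega

theorem two_trans : MulAction.IsMultiplyPretransitive G X 2 :=
  D.step D.one_trans (p := 23) (q := 11) (by norm_num) (by norm_num)
    (by rw [D.loc.card]; decide) (by rw [D.loc.card]; decide)
    (fun g => D.fix_twentythree) (fun g hg => (D.fix_eleven hg).le)
    (fun n h0 h1 h2 h3 => by omega)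

theorem fix_seven {g : G} (hg : orderOf g = 7) : (fix (X := X) g).card = 3 := by
  have hp : Nat.Prime 7 := by norm_num
  have hm := D.fix_mod hp hg
  have hl := D.fix_lt (D.ne_one hp hg)
  have hc := (D.desc_le_cent D.two_trans (by norm_num) g).trans (D.loc.cent7 g hg)
  unfold Nat.ModEq at hm
  by_contra hne
  have := (Nat.descFactorial_le 2 (show 10 ≤ (fix (X := X) g).card by omega)).trans hc
  norm_num [Nat.descFactorial] at this

theorem fix_five {g : G} (hg : orderOf g = 5) : (fix (X := X) g).card = 4 := by
  have hp : Nat.Prime 5 := by norm_num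
  have hm := D.fix_mod hp hg
  have hl := D.fix_lt (D.ne_one hp hg)
  have hc := (D.desc_le_cent D.two_trans (by norm_num) g).trans (D.loc.cent5 g hg)
  unfold Nat.ModEq at hm
  by_contra hne
  have := (Nat.descFactorial_le 2 (show 9 ≤ (fix (X := X) g).card by omega)).trans hc
  norm_num [Nat.descFactorial] at this

theorem three_trans : MulAction.IsMultiplyPretransitive G X 3 :=
  D.step D.two_trans (p := 11) (q := 7) (by norm_num) (by norm_num)
    (by rw [D.loc.card]; decide) (by rw [D.loc.card]; decide)
    (fun g => D.fix_eleven) (fun g hg => (D.fix_seven hg).le)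
    (fun n h0 h1 h2 h3 => by omega)

theorem four_trans : MulAction.IsMultiplyPretransitive G X 4 :=
  D.step D.three_trans (p := 7) (q := 5) (by norm_num) (by norm_num)
    (by rw [D.loc.card]; decide) (by rw [D.loc.card]; decide)
    (fun g => D.fix_seven) (fun g hg => (D.fix_five hg).le)
    (fun n h0 h1 h2 h3 => by
      have : n ≤ 21 := by omega
      interval_cases n <;> omega)

theorem fix_mod_four {g : G} (hg : orderOf g = 2) : (fix (X := X) g).card % 4 = 0 := by
  haveI := D.loc.simple
  have hne : ∃ a b : G, a * b ≠ b * a := by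
    by_contra hcon
    push_neg at hcon
    letI : CommGroup G := { (inferInstance : Group G) with mul_comm := hcon }
    have hp : (Nat.card G).Prime := IsSimpleGroup.prime_card
    rw [D.loc.card] at hp
    norm_num at hp
  have hsign : Equiv.Perm.sign (MulAction.toPermHom G X g) = 1 := by
    set φ := (Equiv.Perm.sign : Equiv.Perm X →* ℤˣ).comp (MulAction.toPermHom G X)
    rcases IsSimpleGroup.eq_bot_or_eq_top_of_normal φ.ker φ.normal_ker with h | h
    · obtain ⟨a, b, hab⟩ := hne
      exact absurd ((MonoidHom.ker_eq_bot_iff φ).1 h (by rw [map_mul, map_mul, mul_comm])) hab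
    · exact (MonoidHom.mem_ker (f := φ)).1 (h ▸ Subgroup.mem_top g)
  set σ := MulAction.toPermHom G X g
  have hinj : Function.Injective (MulAction.toPermHom G X) :=
    (injective_iff_map_eq_one _).2 fun k hk => D.faithful k fun x => Equiv.congr_fun hk x
  have hord : orderOf σ = 2 := (orderOf_injective _ hinj g).trans hg
  obtain ⟨n, hn⟩ := Equiv.Perm.cycleType_prime_order (σ := σ) (by rw [hord]; norm_num)
  rw [hord] at hn
  have hs := Equiv.Perm.sum_cycleType σ
  rw [hn, Multiset.sum_replicate, smul_eq_mul] at hs
  rw [Equiv.Perm.sign_of_cycleType, hn, Multiset.sum_replicate, Multiset.card_replicate,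
    smul_eq_mul] at hsign
  have hev : Even ((n + 1) * 2 + (n + 1)) := by
    rcases Nat.even_or_odd ((n + 1) * 2 + (n + 1)) with h | h
    · exact h
    · rw [h.neg_one_pow] at hsign; exact absurd hsign (by decide)
  have hsupp : σ.support.card + (fix (X := X) g).card = 24 := by
    have hc : fix (X := X) g = σ.supportᶜ := by
      ext x; simp [mem_fix, σ]
    rw [hc, card_add_card_compl, D.cardX]
  obtain ⟨j, hj⟩ := hev
  omega

/-- An element of prime order centralising an involution: the fixed point congruences. -/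
theorem comm_mod {t : G} (ht : orderOf t = 2) {p : ℕ} (hp : p.Prime)
    (h : p ∣ Nat.card (Subgroup.centralizer ({t} : Set G))) :
    ∃ z : G, orderOf z = p ∧ z * t = t * z ∧ ∃ b : ℕ, b ≤ (fix (X := X) z).card ∧
      (fix (X := X) t).card % p = b % p ∧ (fix (X := X) z).card % 2 = b % 2 := by
  haveI := Fact.mk hp
  obtain ⟨z, hz⟩ := exists_prime_orderOf_dvd_card' p h
  have hzp : orderOf (z : G) = p := by rw [Subgroup.orderOf_coe]; exact hz
  have hc : (z : G) * t = t * z := Subgroup.mem_centralizer_singleton_iff.1 z.2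
  have mp := fix_modEq hp 1 (z : G) (fix (X := X) t)
    (fun x hx => mem_fix.2 (by rw [← mul_smul, ← hc, mul_smul, mem_fix.1 hx]))
    fun x _ => by rw [pow_one, ← hzp, pow_orderOf_eq_one, one_smul]
  have m2 := fix_modEq Nat.prime_two 1 t (fix (X := X) (z : G))
    (fun x hx => mem_fix.2 (by rw [← mul_smul, hc, mul_smul, mem_fix.1 hx]))
    fun x _ => by rw [pow_one, ← ht, pow_orderOf_eq_one, one_smul]
  have hsame : (fix (X := X) t).filter (fun x => (z : G) • x = x) =
      (fix (X := X) (z : G)).filter fun x => t • x = x := by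
    ext x; simp [mem_fix, and_comm]
  rw [hsame] at mp
  exact ⟨z, hzp, hc, _, card_filter_le _ _, mp, m2⟩

/-- No involution fixes twenty points. -/
theorem fix_ne_twenty {t : G} : (fix (X := X) t).card ≠ 20 := by
  intro h20
  have hS : (fix (X := X) t)ᶜ.card = 4 := by rw [card_compl, h20, D.cardX]
  let f : Fin 4 ≃ {x // x ∈ (fix (X := X) t)ᶜ} :=
    (Fintype.equivFinOfCardEq (by rw [Fintype.card_coe, hS])).symm
  let e : Fin 4 ↪ X := f.toEmbedding.trans (Function.Embedding.subtype _)
  have hC : Nat.card (Subgroup.centralizer ({t} : Set G)) ≤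
      Nat.card ({σ : Fin 4 ↪ {x // x ∈ (fix (X := X) t)ᶜ} // True} × MulAction.stabilizer G e) := by
    haveI : MulAction.IsPretransitive G (Fin 4 ↪ X) := D.four_trans
    have hmove : ∀ c : Subgroup.centralizer ({t} : Set G), ∀ i,
        (c : G) • e i ∈ (fix (X := X) t)ᶜ := fun c i => by
      rw [Finset.mem_compl, mem_fix]
      intro h
      refine Finset.mem_compl.1 (f i).2 (mem_fix.2 ?_)
      refine smul_left_cancel (c : G) ?_
      rw [← mul_smul, Subgroup.mem_centralizer_singleton_iff.1 c.2, mul_smul]
      exact h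
    choose r hr using fun σ : Fin 4 ↪ X => MulAction.exists_smul_eq G e σ
    refine Nat.card_le_card_of_injective (fun c =>
      (⟨⟨fun i => ⟨(c : G) • e i, hmove c i⟩, fun i j hij => e.injective
          (smul_left_cancel (c : G) (congrArg Subtype.val hij))⟩, trivial⟩,
        ⟨(r ((c : G) • e))⁻¹ * c, by
          rw [MulAction.mem_stabilizer_iff, mul_smul, inv_smul_eq_iff]
          exact (hr _).symm⟩)) fun c d hcd => ?_
    obtain ⟨h1, h2⟩ := Prod.mk.injEq _ _ _ _ ▸ hcd
    have he : (c : G) • e = (d : G) • e := DFunLike.ext _ _ fun i =>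
      congrArg Subtype.val (DFunLike.congr_fun (congrArg Subtype.val h1) i)
    have h3 := congrArg Subtype.val h2
    simp only [he] at h3
    exact Subtype.ext (mul_left_cancel h3)
  have hK : Nat.card (MulAction.stabilizer G e) = 960 := by
    have h := D.card_stab D.four_trans e
    rw [show Nat.descFactorial 24 4 = 255024 from rfl] at h
    omega
  rw [Nat.card_prod, hK, Nat.card_eq_fintype_card
    (α := {σ : Fin 4 ↪ {x // x ∈ (fix (X := X) t)ᶜ} // True}),
    Fintype.card_congr (Equiv.subtypeUnivEquiv fun _ => trivial), Fintype.card_embedding_eq,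
    Fintype.card_coe, hS, Fintype.card_fin, show Nat.descFactorial 4 4 = 24 from rfl] at hC
  have h := (D.desc_le_cent D.four_trans (by norm_num) t).trans hC
  rw [h20, show Nat.descFactorial 20 4 = 116280 from rfl] at h
  omega

theorem fix_inv {t : G} (ht : orderOf t = 2) : (fix (X := X) t).card ≤ 12 := by
  have h4 := D.fix_mod_four ht
  have hl := D.fix_lt (D.ne_one Nat.prime_two ht)
  set n := Nat.card (Subgroup.centralizer ({t} : Set G)) with hn
  by_cases h7 : 7 ∣ n
  · obtain ⟨z, hz, -, b, hb, hm, h2⟩ := D.comm_mod ht (by norm_num) h7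
    rw [D.fix_seven hz] at hb h2
    interval_cases b <;> omega
  by_cases h5 : 5 ∣ n
  · obtain ⟨z, hz, -, b, hb, hm, h2⟩ := D.comm_mod ht (by norm_num) h5
    rw [D.fix_five hz] at hb h2
    have := D.fix_ne_twenty (t := t)
    interval_cases b <;> omega
  have h23 : ¬ 23 ∣ n := fun h => by
    obtain ⟨z, hz, -, b, hb, hm, h2⟩ := D.comm_mod ht (by norm_num) h
    rw [D.fix_twentythree hz] at hb h2
    interval_cases b <;> omega
  have h11 : ¬ 11 ∣ n := fun h => by
    obtain ⟨z, hz, hc, -⟩ := D.comm_mod ht (p := 11) (by norm_num) h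
    have h22 : orderOf (z * t) = 22 := by
      rw [Commute.orderOf_mul_eq_mul_orderOf_of_coprime hc (by rw [hz, ht]; norm_num), hz, ht]
    have hd := Subgroup.orderOf_dvd_natCard (Subgroup.centralizer ({z} : Set G)) (x := z * t)
      (Subgroup.mem_centralizer_singleton_iff.2 (by rw [mul_assoc, ← hc]))
    have hle := D.loc.cent11 z hz
    rw [h22] at hd
    have := Nat.le_of_dvd Nat.card_pos hd
    omega
  have hd : n ∣ 27648 * (5 * 7 * 11 * 23) := by
    have := Subgroup.card_subgroup_dvd_card (Subgroup.centralizer ({t} : Set G))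
    rw [D.loc.card] at this
    norm_num
    exact this
  have hc : Nat.Coprime n (5 * 7 * 11 * 23) :=
    ((((show Nat.Prime 5 by norm_num).coprime_iff_not_dvd.2 h5).symm.mul_right
      ((show Nat.Prime 7 by norm_num).coprime_iff_not_dvd.2 h7).symm).mul_right
      ((show Nat.Prime 11 by norm_num).coprime_iff_not_dvd.2 h11).symm).mul_right
      ((show Nat.Prime 23 by norm_num).coprime_iff_not_dvd.2 h23).symm
  have hle := (D.desc_le_cent D.four_trans (by norm_num) t).trans
    (Nat.le_of_dvd (by norm_num) (hc.dvd_of_dvd_mul_right hd))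
  by_contra h12
  have := (Nat.descFactorial_le 4 (show 16 ≤ (fix (X := X) t).card by omega)).trans hle
  norm_num [Nat.descFactorial] at this

end Act

end Cfsg.Agent.Lib.M24Nse52
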