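import Cfsg.Agent.S0496
import Cfsg.Agent.Lib.PSolvable.Core

/-!
Groups of order 960 in which elements of order five are self-centralising have a normal abelian
subgroup of order sixteen containing every normal subgroup of order prime to five.
-/

set_option autoImplicit false

open scoped Classical

namespace Cfsg.Agent.Lib.M24Nse52

open Subgroup

universe u

variable {L : Type u} [Group L] [Finite L]

/-- Only fifth roots of one commute with elements of order five. -/
def SelfCent (L : Type u) [Group L] : Prop :=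
  ∀ y z : L, orderOf y = 5 → z * y = y * z → z ^ 5 = 1

omit [Finite L] in
theorem SelfCent.subgroup (h : SelfCent L) (M : Subgroup L) : SelfCent M := fun y z hy hz =>
  Subtype.ext (h y z (by rw [Subgroup.orderOf_coe]; exact hy) (congrArg Subtype.val hz))

theorem card_cent_le (h : SelfCent L) (h25 : ¬ 25 ∣ Nat.card L) {y : L} (hy : orderOf y = 5) :
    Nat.card (centralizer ({y} : Set L)) ≤ 5 := by
  haveI : Fact (Nat.Prime 5) := ⟨by norm_num⟩
  have hp : IsPGroup 5 (centralizer ({y} : Set L)) := fun z =>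
    ⟨1, Subtype.ext (h y z hy (mem_centralizer_singleton_iff.1 z.2))⟩
  obtain ⟨k, hk⟩ := IsPGroup.iff_card.1 hp
  have hd := card_subgroup_dvd_card (centralizer ({y} : Set L))
  rw [hk] at hd ⊢
  rcases k with _ | _ | k
  · norm_num
  · norm_num
  · exact absurd ((pow_dvd_pow 5 (by omega : 2 ≤ k + 2)).trans hd) h25

/-- The normaliser of a Sylow 5-subgroup has order at most twenty. -/
theorem card_normalizer_le (h : SelfCent L) (h25 : ¬ 25 ∣ Nat.card L) (P : Sylow 5 L)
    (hP : Nat.card P = 5) :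
    Nat.card (normalizer (P : Set L)) ≤ 20 ∧ 5 ∣ Nat.card (normalizer (P : Set L)) := by
  haveI : Fact (Nat.Prime 5) := ⟨by norm_num⟩
  haveI := Fintype.ofFinite L
  refine ⟨?_, (show 5 ∣ Nat.card (P : Subgroup L) from dvd_of_eq hP.symm).trans
    (card_dvd_of_le le_normalizer)⟩
  obtain ⟨y, hy⟩ := exists_prime_orderOf_dvd_card' (G := P) 5 (by rw [hP])
  have hy5 : orderOf (y : L) = 5 := by rw [Subgroup.orderOf_coe]; exact hy
  set S : Finset L := (Finset.univ.filter fun g => g ∈ (P : Subgroup L)).erase 1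
  have hS : S.card = 4 := by
    rw [Finset.card_erase_of_mem (Finset.mem_filter.2 ⟨Finset.mem_univ _, one_mem _⟩),
      ← Fintype.card_subtype, ← Nat.card_eq_fintype_card]
    exact congrArg (· - 1) hP
  set N : Finset L := Finset.univ.filter fun g => g ∈ normalizer (P : Set L)
  have hN : N.card = Nat.card (normalizer (P : Set L)) := by
    rw [Nat.card_eq_fintype_card, Fintype.card_subtype]
  have hC := card_cent_le h h25 hy5
  have key := Finset.card_le_mul_card_image (f := fun g : L => g * (y : L) * g⁻¹) N 5 fun b _ => ?_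
  · have himg : N.image (fun g : L => g * (y : L) * g⁻¹) ⊆ S := fun b hb => by
      obtain ⟨g, hg, rfl⟩ := Finset.mem_image.1 hb
      refine Finset.mem_erase.2 ⟨fun e => ?_, Finset.mem_filter.2 ⟨Finset.mem_univ _,
        (Subgroup.mem_normalizer_iff.1 (Finset.mem_filter.1 hg).2 _).1 y.2⟩⟩
      have := conj_eq_one_iff.1 e
      rw [this, orderOf_one] at hy5
      norm_num at hy5
    have := Finset.card_le_card himg
    omega
  · rcases (N.filter fun g => g * (y : L) * g⁻¹ = b).eq_empty_or_nonempty with he | ⟨k, hk⟩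
    · simp [he]
    refine le_trans ?_ hC
    rw [Nat.card_eq_fintype_card, Fintype.card_subtype]
    refine Finset.card_le_card_of_injOn (fun g => k⁻¹ * g) (fun g hg => ?_)
      fun a _ c _ e => mul_left_cancel e
    refine Finset.mem_filter.2 ⟨Finset.mem_univ _, mem_centralizer_singleton_iff.2 ?_⟩
    have e : g * (y : L) * g⁻¹ = k * y * k⁻¹ :=
      (Finset.mem_filter.1 hg).2.trans (Finset.mem_filter.1 hk).2.symm
    calc k⁻¹ * g * y = k⁻¹ * (g * y * g⁻¹) * g := by group
      _ = k⁻¹ * (k * y * k⁻¹) * g := by rw [e]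
      _ = y * (k⁻¹ * g) := by group

/-- A group of order `480` or `960` here has `96` Sylow 5-subgroups; the normalisers have order
`|L| / 96`. -/
theorem card_normalizer (h : SelfCent L) (hc : Nat.card L = 480 ∨ Nat.card L = 960)
    (P : Sylow 5 L) :
    Nat.card P = 5 ∧ Nat.card (normalizer (P : Set L)) * 96 = Nat.card L := by
  haveI : Fact (Nat.Prime 5) := ⟨by norm_num⟩
  have h25 : ¬ 25 ∣ Nat.card L := by rcases hc with e | e <;> rw [e] <;> norm_num
  have hP : Nat.card P = 5 := by
    obtain ⟨k, hk⟩ := IsPGroup.iff_card.1 P.2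
    have hd : 5 ∣ Nat.card P :=
      P.dvd_card_of_dvd_card (by rcases hc with e | e <;> rw [e] <;> norm_num)
    have hd' := card_subgroup_dvd_card (P : Subgroup L)
    rw [hk] at hd hd' ⊢
    rcases k with _ | _ | k
    · norm_num at hd
    · rfl
    · exact absurd ((pow_dvd_pow 5 (by omega : 2 ≤ k + 2)).trans hd') h25
  obtain ⟨hle, hd⟩ := card_normalizer_le h h25 P hP
  have hm := card_sylow_modEq_one 5 L
  rw [P.card_eq_index_normalizer] at hm
  have hmul := (normalizer (P : Set L)).card_mul_index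
  refine ⟨hP, ?_⟩
  obtain ⟨j, hj⟩ := hd
  rw [hj] at hmul hle ⊢
  unfold Nat.ModEq at hm
  have hj4 : j ≤ 4 := by omega
  rcases hc with e | e <;> rw [e] at hmul ⊢ <;> interval_cases j <;> omega

/-- A normal subgroup of order divisible by five has small index. -/
theorem index_small (h : SelfCent L) (hc : Nat.card L = 480 ∨ Nat.card L = 960)
    (M : Subgroup L) [M.Normal] (h5 : 5 ∣ Nat.card M) :
    (Nat.card L / 96) ∣ 10 ∧ M.index * 5 ∣ Nat.card L / 96 := by
  haveI : Fact (Nat.Prime 5) := ⟨by norm_num⟩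
  refine ⟨by rcases hc with e | e <;> rw [e] <;> norm_num, ?_⟩
  obtain ⟨Q⟩ : Nonempty (Sylow 5 M) := inferInstance
  have htop := Sylow.normalizer_sup_eq_top Q
  set P' : Subgroup L := (Q : Subgroup M).map M.subtype
  have h25 : ¬ 25 ∣ Nat.card L := by rcases hc with e | e <;> rw [e] <;> norm_num
  have hPQ : Nat.card P' = Nat.card Q :=
    (Nat.card_congr ((Q : Subgroup M).equivMapOfInjective _ Subtype.val_injective).toEquiv).symm
  obtain ⟨P, hP⟩ := (Q.2.map M.subtype).exists_le_sylow
  obtain ⟨hP5, hN⟩ := card_normalizer h hc P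
  have hQ5 : 5 ∣ Nat.card Q := Q.dvd_card_of_dvd_card h5
  have heq : P' = P := Subgroup.eq_of_le_of_card_ge hP (by
    rw [hP5, hPQ]; exact Nat.le_of_dvd Nat.card_pos hQ5)
  rw [heq] at htop
  set N := normalizer (P : Set L)
  have hi : M.index = M.relIndex N := by
    rw [← Subgroup.relIndex_sup_right (K := M) (H := N), show N ⊔ M = ⊤ from htop,
      Subgroup.relIndex_top_right]
  have h1 : M.index * Nat.card (M ⊓ N : Subgroup L) = Nat.card N := by
    rw [hi, mul_comm, ← Subgroup.inf_relIndex_right,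
      PSolvable.card_mul_relIndex inf_le_right]
  have h2 : 5 ∣ Nat.card (M ⊓ N : Subgroup L) :=
    hP5 ▸ card_dvd_of_le (le_inf (heq ▸ map_subtype_le (Q : Subgroup M)) le_normalizer)
  obtain ⟨j, hj⟩ := h2
  refine ⟨j, ?_⟩
  rw [show Nat.card L / 96 = Nat.card N by omega, ← h1, hj]
  ring

/-- A normal subgroup of order prime to five is a 2-group. -/
theorem isPGroup_two (h : SelfCent L) (hd : Nat.card L ∣ 960) (h5 : 5 ∣ Nat.card L)
    (N : Subgroup L) [N.Normal] (hN : ¬ 5 ∣ Nat.card N) : IsPGroup 2 N := by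
  haveI : Fact (Nat.Prime 5) := ⟨by norm_num⟩
  haveI : Fact (Nat.Prime 3) := ⟨by norm_num⟩
  have hdN : Nat.card N ∣ 3 * 2 ^ 6 :=
    (((show Nat.Prime 5 by norm_num).coprime_iff_not_dvd.2 hN).symm).dvd_of_dvd_mul_left
      (show Nat.card N ∣ 5 * (3 * 2 ^ 6) from (card_subgroup_dvd_card N).trans hd)
  have h3 : ¬ 3 ∣ Nat.card N := by
    intro h3
    obtain ⟨Q⟩ : Nonempty (Sylow 3 N) := inferInstance
    have hQ : Nat.card Q = 3 := by
      obtain ⟨k, hk⟩ := IsPGroup.iff_card.1 Q.2
      have hd1 : 3 ∣ Nat.card Q := Q.dvd_card_of_dvd_card h3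
      have hd2 := (card_subgroup_dvd_card (Q : Subgroup N)).trans hdN
      rw [hk] at hd1 hd2 ⊢
      rcases k with _ | _ | k
      · norm_num at hd1
      · rfl
      · exact absurd ((pow_dvd_pow 3 (by omega : 2 ≤ k + 2)).trans hd2) (by norm_num)
    set Q' : Subgroup L := (Q : Subgroup N).map N.subtype
    have hQ' : Nat.card Q' = 3 :=
      (Nat.card_congr ((Q : Subgroup N).equivMapOfInjective _
        Subtype.val_injective).toEquiv).symm.trans hQ
    have htop := Sylow.normalizer_sup_eq_top Q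
    set J := normalizer (Q' : Set L)
    have h5J : 5 ∣ Nat.card J := by
      have e : N.relIndex J = N.index := by
        rw [← Subgroup.relIndex_sup_right (K := N) (H := J), htop,
          Subgroup.relIndex_top_right]
      have h5i : 5 ∣ N.index := by
        have := N.card_mul_index
        rw [← this] at h5
        exact ((show Nat.Prime 5 by norm_num).dvd_mul.1 h5).resolve_left hN
      exact h5i.trans (e ▸ Subgroup.relIndex_dvd_card N J)
    obtain ⟨y, hy⟩ := exists_prime_orderOf_dvd_card' 5 h5J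
    have hy5 : orderOf (y : L) = 5 := by rw [Subgroup.orderOf_coe]; exact hy
    obtain ⟨q, hq⟩ := exists_prime_orderOf_dvd_card' (G := Q') 3 (by rw [hQ'])
    have hq3 : orderOf (q : L) = 3 := by rw [Subgroup.orderOf_coe]; exact hq
    have hz : Subgroup.zpowers (q : L) = Q' :=
      Subgroup.eq_of_le_of_card_ge (zpowers_le.2 q.2) (by rw [Nat.card_zpowers, hq3, hQ'])
    have hm : (y : L) * q * (y : L)⁻¹ ∈ Subgroup.zpowers (q : L) :=
      hz.symm ▸ (mem_normalizer_iff.1 y.2 _).1 q.2
    obtain ⟨i, hi⟩ := (mem_powers_iff_mem_zpowers.2 hm)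
    simp only at hi
    rw [← pow_mod_orderOf, hq3] at hi
    have hlt : i % 3 < 3 := Nat.mod_lt _ (by norm_num)
    have hcases : i % 3 = 0 ∨ i % 3 = 1 ∨ i % 3 = 2 := by omega
    rcases hcases with e | e | e <;> rw [e] at hi
    · rw [pow_zero] at hi
      rw [conj_eq_one_iff.1 hi.symm, orderOf_one] at hq3
      norm_num at hq3
    · rw [pow_one] at hi
      have hc : (q : L) * y = y * q := by
        conv_lhs => rw [hi]
        group
      have h15 := orderOf_dvd_of_pow_eq_one (h _ _ hy5 hc)
      rw [hq3] at h15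
      norm_num at h15
    · have hit : ∀ n : ℕ, (y : L) ^ n * q * ((y : L) ^ n)⁻¹ = (q : L) ^ 2 ^ n := by
        intro n
        induction n with
        | zero => simp
        | succ n ih =>
          calc (y : L) ^ (n + 1) * q * ((y : L) ^ (n + 1))⁻¹
              = y * ((y : L) ^ n * q * ((y : L) ^ n)⁻¹) * (y : L)⁻¹ := by
                rw [pow_succ']; group
            _ = ((y : L) * q * (y : L)⁻¹) ^ 2 ^ n := by rw [ih, conj_pow]
            _ = (q : L) ^ 2 ^ (n + 1) := by rw [← hi, ← pow_mul, pow_succ']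
      have h32 := hit 5
      have hy1 : (y : L) ^ 5 = 1 := hy5 ▸ pow_orderOf_eq_one (y : L)
      rw [hy1, one_mul, inv_one, mul_one, ← pow_mod_orderOf, hq3] at h32
      have h1 : (q : L) = 1 := mul_left_cancel (a := (q : L)) (by
        rw [mul_one]; simpa [pow_two] using h32.symm)
      rw [h1, orderOf_one] at hq3
      norm_num at hq3
  have h26 : Nat.card N ∣ 2 ^ 6 :=
    (((show Nat.Prime 3 by norm_num).coprime_iff_not_dvd.2 h3).symm).dvd_of_dvd_mul_left hdN
  obtain ⟨k, -, hk⟩ := (Nat.dvd_prime_pow Nat.prime_two).1 h26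
  exact IsPGroup.of_card hk

/-- A group of order `480` or `960` here is not simple. -/
theorem exists_normal (hc : Nat.card L = 480 ∨ Nat.card L = 960) :
    ∃ N : Subgroup L, N.Normal ∧ N ≠ ⊥ ∧ N ≠ ⊤ := by
  by_contra hcon
  push_neg at hcon
  haveI : Nontrivial L := Finite.one_lt_card_iff_nontrivial.1 (by
    rcases hc with e | e <;> rw [e] <;> norm_num)
  haveI : IsSimpleGroup L := ⟨fun N hN => or_iff_not_imp_left.2 (hcon N hN)⟩
  have hncomm : ¬ IsMulCommutative L := by
    intro hcomm
    letI : CommGroup L :=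
      { (inferInstance : Group L) with mul_comm := fun a b => hcomm.is_comm.comm a b }
    have := IsSimpleGroup.prime_card (α := L)
    rcases hc with e | e <;> rw [e] at this <;> norm_num at this
  have := Cfsg.Agent.S0496.result (G := L) hncomm
    (by rcases hc with e | e <;> rw [e] <;> norm_num)
  rcases hc with e | e <;> rw [e] at this <;> norm_num at this

theorem pCore_ne_bot_480 (h : SelfCent L) (hc : Nat.card L = 480) : Cfsg.pCore 2 L ≠ ⊥ := by
  obtain ⟨N, hN, hne, hnt⟩ := exists_normal (Or.inl hc)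
  by_cases h5 : 5 ∣ Nat.card N
  · obtain ⟨-, hi⟩ := index_small h (Or.inl hc) N h5
    rw [hc] at hi
    have h1 : N.index = 1 := by
      have := Nat.le_of_dvd (by norm_num) hi
      have h0 : N.index ≠ 0 := Subgroup.index_ne_zero_of_finite
      omega
    exact absurd (Subgroup.index_eq_one.1 h1) hnt
  · exact fun e => hne (le_bot_iff.1 (e ▸ PSolvable.le_pCore
      (isPGroup_two h (by rw [hc]; norm_num) (by rw [hc]; norm_num) N h5)))

theorem pCore_ne_bot (h : SelfCent L) (hc : Nat.card L = 960) : Cfsg.pCore 2 L ≠ ⊥ := by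
  obtain ⟨M, hM, hne, hnt⟩ := exists_normal (Or.inr hc)
  by_cases h5 : 5 ∣ Nat.card M
  · obtain ⟨-, hi⟩ := index_small h (Or.inr hc) M h5
    rw [hc] at hi
    have h2 : M.index ≤ 2 := by
      have := Nat.le_of_dvd (by norm_num) hi
      omega
    have h0 : M.index ≠ 0 := Subgroup.index_ne_zero_of_finite
    have h1 : M.index ≠ 1 := fun e => hnt (Subgroup.index_eq_one.1 e)
    have hcard : Nat.card M = 480 := by
      have := M.card_mul_index
      rw [show M.index = 2 by omega, hc] at this
      omega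
    haveI := PSolvable.pCore_characteristic (p := 2) (G := M)
    intro e
    refine pCore_ne_bot_480 (h.subgroup M) hcard ?_
    have hle : (Cfsg.pCore 2 M).map M.subtype ≤ Cfsg.pCore 2 L :=
      PSolvable.le_pCore (PSolvable.pCore_isPGroup.map _)
    rw [e, le_bot_iff, Subgroup.map_eq_bot_iff_of_injective _ Subtype.val_injective] at hle
    exact hle
  · exact fun e => hne (le_bot_iff.1 (e ▸ PSolvable.le_pCore
      (isPGroup_two h (by rw [hc]) (by rw [hc]; norm_num) M h5)))

/-- A nontrivial normal 2-subgroup has order sixteen. -/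
theorem card_sixteen (h : SelfCent L) (hc : Nat.card L = 960) {N : Subgroup L} [N.Normal]
    (hN : IsPGroup 2 N) (hne : N ≠ ⊥) : Nat.card N = 16 := by
  haveI : Fact (Nat.Prime 5) := ⟨by norm_num⟩
  haveI : Fact (Nat.Prime 2) := ⟨Nat.prime_two⟩
  haveI := Fintype.ofFinite L
  obtain ⟨y, hy⟩ := exists_prime_orderOf_dvd_card' (G := L) 5 (by rw [hc]; norm_num)
  set S : Finset L := Finset.univ.filter fun g => g ∈ N
  have hS : S.card = Nat.card N := by rw [Nat.card_eq_fintype_card, Fintype.card_subtype]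
  have hz : IsPGroup 5 (Subgroup.zpowers (ConjAct.toConjAct y)) :=
    IsPGroup.of_card (n := 1) (by
      rw [Nat.card_zpowers, show orderOf (ConjAct.toConjAct y) = 5 from
        (orderOf_injective (ConjAct.toConjAct : L ≃* ConjAct L).toMonoidHom
          (MulEquiv.injective _) y).trans hy, pow_one])
  let f : Function.End {x // x ∈ S} := fun x => ⟨y * x.1 * y⁻¹, Finset.mem_filter.2
    ⟨Finset.mem_univ _, Subgroup.Normal.conj_mem inferInstance _ (Finset.mem_filter.1 x.2).2 y⟩⟩
  have hf : ∀ (k : ℕ) (x : {x // x ∈ S}), ((f ^ k) x).1 = y ^ k * x.1 * (y ^ k)⁻¹ := by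
    intro k
    induction k with
    | zero => intro x; simp; rfl
    | succ k ih =>
      intro x
      rw [pow_succ f]
      refine (ih (f x)).trans ?_
      show y ^ k * (y * x.1 * y⁻¹) * (y ^ k)⁻¹ = _
      rw [pow_succ]; group
  have hf5 : f ^ 5 ^ 1 = 1 := funext fun x => Subtype.ext <| by
    rw [hf, pow_one, ← hy, pow_orderOf_eq_one]; simp; rfl
  have hm := Equiv.Perm.card_fixedPoints_modEq hf5
  have hfix : Fintype.card f.fixedPoints = 1 := by
    refine Fintype.card_eq_one_iff.2 ⟨⟨⟨1, Finset.mem_filter.2 ⟨Finset.mem_univ _, one_mem N⟩⟩,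
      Subtype.ext (by simp [f])⟩, fun ⟨x, hx⟩ => Subtype.ext (Subtype.ext ?_)⟩
    have e : y * x.1 * y⁻¹ = x.1 := congrArg Subtype.val hx
    have h1 := h y x.1 hy (by
      conv_lhs => rw [← e]
      group)
    obtain ⟨k, hk⟩ := hN ⟨x.1, (Finset.mem_filter.1 x.2).2⟩
    exact orderOf_eq_one_iff.1 (Nat.eq_one_of_dvd_coprimes
      (Nat.Coprime.pow_left k (show Nat.Coprime 2 5 by norm_num))
      (orderOf_dvd_of_pow_eq_one (congrArg Subtype.val hk)) (orderOf_dvd_of_pow_eq_one h1))
  rw [Fintype.card_coe, hfix, hS] at hm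
  have hdvd : Nat.card N ∣ 15 * 2 ^ 6 := by
    have := card_subgroup_dvd_card N; rw [hc] at this; simpa using this
  obtain ⟨k, hk⟩ := IsPGroup.iff_card.1 hN
  have h1 : Nat.card N ≠ 1 := fun e => hne (Subgroup.eq_bot_of_card_eq _ e)
  rw [hk] at hdvd hm h1 ⊢
  have hk6 : k ≤ 6 := by
    have := ((show Nat.Coprime 2 15 by norm_num).pow_left k).dvd_of_dvd_mul_left hdvd
    exact (Nat.pow_dvd_pow_iff_le_right (by norm_num)).1 this
  unfold Nat.ModEq at hm
  interval_cases k <;> omega

/-- The normal subgroup of order sixteen. -/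
theorem exists_core (h : SelfCent L) (hc : Nat.card L = 960) :
    ∃ R : Subgroup L, R.Normal ∧ Nat.card R = 16 ∧ (∀ a ∈ R, ∀ b ∈ R, a * b = b * a) ∧
      ∀ N : Subgroup L, N.Normal → ¬ 5 ∣ Nat.card N → N ≤ R := by
  haveI : Fact (Nat.Prime 2) := ⟨Nat.prime_two⟩
  haveI := PSolvable.pCore_characteristic (p := 2) (G := L)
  have hn : (Cfsg.pCore 2 L).Normal := Subgroup.normal_of_characteristic _
  have hR := card_sixteen h hc PSolvable.pCore_isPGroup (pCore_ne_bot h hc)
  refine ⟨Cfsg.pCore 2 L, hn, hR, fun a ha b hb => ?_, fun N hN h5 => ?_⟩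
  · set Z : Subgroup L := (center (Cfsg.pCore 2 L)).map (Cfsg.pCore 2 L).subtype
    haveI : Nontrivial (Cfsg.pCore 2 L) := Finite.one_lt_card_iff_nontrivial.1 (by rw [hR]; norm_num)
    have hZ : Nat.card Z = 16 := card_sixteen h hc
      ((PSolvable.pCore_isPGroup.to_subgroup _).map _) fun e => by
        rw [Subgroup.map_eq_bot_iff_of_injective _ Subtype.val_injective] at e
        exact (PSolvable.pCore_isPGroup (p := 2) (G := L)).bot_lt_center.ne e.symm
    have heq : Z = Cfsg.pCore 2 L :=
      Subgroup.eq_of_le_of_card_ge (map_subtype_le _) (by rw [hZ, hR])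
    obtain ⟨z, hz, rfl⟩ := heq.symm ▸ ha
    exact (congrArg Subtype.val (mem_center_iff.1 hz ⟨b, hb⟩)).symm
  · exact PSolvable.le_pCore (isPGroup_two h (by rw [hc]) (by rw [hc]; norm_num) N h5)

end Cfsg.Agent.Lib.M24Nse52
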