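import Cfsg.Agent.Lib.M24Nse52.Quad
import Cfsg.Agent.Lib.Design.WittAutGroups

/-!
A simple group of order 244823040 with small centralisers and a subgroup of index twenty-four is
the Mathieu group of degree 24: the fixed sets of involutions with eight fixed points form an
S(5, 8, 24).
-/

set_option autoImplicit false

open Finset
open scoped Classical

namespace Cfsg.Agent.Lib.M24Nse52

open Cfsg.Agent.Lib.M22Nse57 (fix mem_fix orderOf_conj')

universe u v

variable {G : Type u} [Group G] {X : Type v} [MulAction G X]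

/-- The blocks: eight-point fixed sets of involutions. -/
def octadSets (G : Type u) (X : Type v) [Group G] [MulAction G X] [Fintype X] : Set (Finset X) :=
  {B | B.card = 8 ∧ ∃ t : G, orderOf t = 2 ∧ fix (X := X) t = B}

namespace Act

variable [Fintype G] [Fintype X] (D : Act G X)
include D

theorem steiner : Cfsg.IsSteinerSystem 5 8 (octadSets G X) := by
  refine ⟨fun b hb => hb.1, fun s hs => ?_⟩
  let f : Fin 5 ≃ s := (Fintype.equivFinOfCardEq (by simpa using hs)).symm
  let e5 : Fin 5 ↪ X := f.toEmbedding.trans (Function.Embedding.subtype _)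
  let e : Fin 4 ↪ X := Fin.castSuccEmb.trans e5
  have hx : ∀ i, e i ≠ e5 (Fin.last 4) := fun i h =>
    (Fin.castSucc_lt_last i).ne (e5.injective h)
  obtain ⟨B, hB8, hBe, hBx, ⟨t, ht, htB⟩, huniq⟩ := D.exists_block e _ hx
  have hmem : ∀ z ∈ s, ∃ i, e5 i = z := fun z hz => ⟨f.symm ⟨z, hz⟩, by simp [e5]⟩
  refine ⟨B, ⟨⟨hB8, t, ht, htB⟩, fun z hz => ?_⟩, ?_⟩
  · obtain ⟨i, rfl⟩ := hmem z hz
    exact Fin.lastCases hBx hBe i
  · rintro b ⟨⟨-, t', ht', rfl⟩, hb⟩
    exact huniq t' ht' (fun i => mem_fix.1 (hb (f i.castSucc).2))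
      (mem_fix.1 (hb (f (Fin.last 4)).2))

theorem mem_aut (g : G) :
    MulAction.toPermHom G X g ∈ Cfsg.setSystemAut (octadSets G X) := by
  rw [WittAut.mem_aut_iff]
  rintro B ⟨h8, t, ht, rfl⟩
  have e : (fix (X := X) t).image (MulAction.toPermHom G X g) = fix (g * t * g⁻¹) := by
    ext z
    rw [mem_image, mem_fix]
    constructor
    · rintro ⟨w, hw, rfl⟩
      show (g * t * g⁻¹) • g • w = g • w
      rw [mul_smul, mul_smul, inv_smul_smul, mem_fix.1 hw]
    · intro h
      refine ⟨g⁻¹ • z, mem_fix.2 ?_, smul_inv_smul g z⟩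
      rw [eq_inv_smul_iff, ← mul_smul, ← mul_smul]
      exact h
  rw [e]
  exact ⟨by rw [M22Nse57.fix_conj, h8], g * t * g⁻¹, (orderOf_conj' g t).trans ht, rfl⟩

theorem nonempty_mulEquiv : Nonempty (G ≃* ↥Cfsg.M24) := by
  have hB := D.steiner
  let ψ : G →* Cfsg.setSystemAut (octadSets G X) :=
    (MulAction.toPermHom G X).codRestrict _ D.mem_aut
  have hψ : Function.Injective ψ := (injective_iff_map_eq_one _).2 fun g hg =>
    D.faithful g fun x => Equiv.congr_fun (congrArg Subtype.val hg) x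
  obtain ⟨e, he⟩ := WittModel.model24 D.cardX hB
  obtain ⟨φ, -⟩ := WittAut.aut24 he
  have hcard : Nat.card G = Nat.card (Cfsg.setSystemAut (octadSets G X)) := by
    rw [(WittAut.result24 D.cardX hB).1.2, D.loc.card]
  exact ⟨(MulEquiv.ofBijective ψ
    ((Nat.bijective_iff_injective_and_card ψ).2 ⟨hψ, hcard⟩)).trans φ⟩

end Act

/-- A group with these local facts and a subgroup of index twenty-four is the Mathieu group. -/
theorem nonempty_mulEquiv_of_index {G : Type u} [Group G] [Finite G] (L : Local G) (H : Subgroup G)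
    (hH : H.index = 24) : Nonempty (G ≃* ↥Cfsg.M24) := by
  haveI := L.simple
  haveI := Fintype.ofFinite G
  haveI := Fintype.ofFinite (G ⧸ H)
  have hcard : Nat.card (G ⧸ H) = 24 := hH
  refine Act.nonempty_mulEquiv (X := G ⧸ H) ⟨L, hcard, inferInstance, fun g hg => ?_⟩
  have hker : g ∈ (MulAction.toPermHom G (G ⧸ H)).ker :=
    (MonoidHom.mem_ker (f := MulAction.toPermHom G (G ⧸ H))).2 (Equiv.ext fun x => hg x)
  rcases IsSimpleGroup.eq_bot_or_eq_top_of_normal _
      (MulAction.toPermHom G (G ⧸ H)).normal_ker with h | h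
  · rwa [h, Subgroup.mem_bot] at hker
  · exfalso
    haveI : Subsingleton (G ⧸ H) := ⟨fun a b => by
      obtain ⟨k, hk⟩ := MulAction.exists_smul_eq G a b
      have := Equiv.congr_fun
        ((MonoidHom.mem_ker (f := MulAction.toPermHom G (G ⧸ H))).1 (h ▸ Subgroup.mem_top k)) a
      exact this.symm.trans hk⟩
    rw [Nat.card_of_subsingleton (QuotientGroup.mk 1)] at hcard
    omega

end Cfsg.Agent.Lib.M24Nse52
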