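import Cfsg.Agent.Lib.M24Nse52.Act
import Cfsg.Agent.Lib.M24Nse2.Facts
import Cfsg.Agent.Lib.M23Nse.Hist

/-!
The centraliser bounds needed for the identification follow from the element counts.
-/

set_option autoImplicit false

open Finset
open scoped Classical

namespace Cfsg.Agent.Lib.M24Nse52

universe u

variable {G : Type u} [Group G] [Finite G]

/-- If every element commuting with `y` has order dividing `p * m` and `m'`-parts are few, the
centraliser is small. -/
theorem card_cent_le_mul {y : G} {p m : ℕ} (hy : orderOf y = p) (hp : p.Prime)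
    (hp2 : ¬ p ^ 2 ∣ Nat.card G) (hcop : Nat.Coprime p m)
    (hm : ∀ z : G, z * y = y * z → z ^ (p * m) = 1) {k : ℕ}
    (hk : Nat.card {z : G // z * y = y * z ∧ z ^ m = 1} ≤ k) :
    Nat.card (Subgroup.centralizer ({y} : Set G)) ≤ p * k := by
  haveI := Fact.mk hp
  set P : Subgroup G := Subgroup.zpowers y
  have hP : Nat.card P = p := by rw [Nat.card_zpowers, hy]
  -- an element killed by `p` and commuting with `y` is a power of `y`
  have hpow : ∀ z : G, z * y = y * z → z ^ p = 1 → z ∈ P := by
    intro z hz hzp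
    by_contra hzP
    set Q : Subgroup G := Subgroup.zpowers z
    have hQ : Nat.card Q = p := by
      rw [Nat.card_zpowers]
      exact orderOf_eq_prime hzp fun h1 => hzP (h1 ▸ one_mem P)
    have hinf : P ⊓ Q = ⊥ := by
      rcases (Nat.dvd_prime hp).1 (hQ ▸ Subgroup.card_dvd_of_le (inf_le_right : P ⊓ Q ≤ Q)) with h | h
      · exact Subgroup.eq_bot_of_card_eq _ h
      · exact absurd ((Subgroup.eq_of_le_of_card_ge (inf_le_right : P ⊓ Q ≤ Q) (by rw [h, hQ])).symm
          ▸ Subgroup.mem_zpowers z : z ∈ P ⊓ Q).1 hzP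
    have hcomm : Commute y z := hz.symm
    let φ : P × Q →* G :=
      P.subtype.noncommCoprod Q.subtype fun a b => by
        obtain ⟨i, hi⟩ := a.2
        obtain ⟨j, hj⟩ := b.2
        show Commute (a : G) (b : G)
        rw [← hi, ← hj]
        exact hcomm.zpow_zpow i j
    have hinj : Function.Injective φ := (injective_iff_map_eq_one φ).2 fun a ha => by
      have h1 : (a.1 : G) * (a.2 : G) = 1 := ha
      have hmem : (a.1 : G) ∈ P ⊓ Q :=
        ⟨a.1.2, by rw [eq_inv_of_mul_eq_one_left h1]; exact Subgroup.inv_mem Q a.2.2⟩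
      rw [hinf, Subgroup.mem_bot] at hmem
      rw [hmem, one_mul] at h1
      exact Prod.ext (Subtype.ext hmem) (Subtype.ext h1)
    have hd := Subgroup.card_dvd_of_injective φ hinj
    rw [Nat.card_prod, hP, hQ, ← pow_two] at hd
    exact hp2 hd
  obtain ⟨u, v, huv⟩ : ∃ u v : ℤ, (p : ℤ) * u + (m : ℤ) * v = 1 :=
    ⟨_, _, (Int.gcd_eq_gcd_ab p m).symm.trans (by rw [Int.gcd_natCast_natCast, hcop]; rfl)⟩
  have hC : ∀ c : Subgroup.centralizer ({y} : Set G), (c : G) * y = y * c := fun c =>
    Subgroup.mem_centralizer_singleton_iff.1 c.2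
  have key := Nat.card_le_card_of_injective
    (fun c : Subgroup.centralizer ({y} : Set G) =>
      ((⟨(c : G) ^ m, hpow _ ((show Commute (c : G) y from hC c).pow_left m)
          (by rw [← pow_mul, mul_comm]; exact hm _ (hC c))⟩ : P),
        (⟨(c : G) ^ p, (show Commute (c : G) y from hC c).pow_left p,
          by rw [← pow_mul]; exact hm _ (hC c)⟩ : {z : G // z * y = y * z ∧ z ^ m = 1})))
    fun c d h => by
      have h1 : (c : G) ^ m = (d : G) ^ m := congrArg (fun x => (x.1 : G)) h
      have h2 : (c : G) ^ p = (d : G) ^ p := congrArg (fun x => (x.2 : G)) h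
      have split : ∀ g : G, g = (g ^ p) ^ u * (g ^ m) ^ v := fun g => by
        rw [← zpow_natCast, ← zpow_natCast, ← zpow_mul, ← zpow_mul, ← zpow_add, huv, zpow_one]
      refine Subtype.ext ?_
      rw [split (c : G), split (d : G), h1, h2]
  rw [Nat.card_prod, hP] at key
  exact key.trans (Nat.mul_le_mul_left p hk)

/-- Elements with a given small order in a centraliser of an element of prime order. -/
theorem cnt_cent {p m : ℕ} (hp : p.Prime) (hp2 : ¬ p ^ 2 ∣ Nat.card G) (hpm : p.Coprime m)
    {y : G} (hy : orderOf y = p) :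
    Nat.card {g : G // orderOf g = p * m} = Nat.card {g : G // orderOf g = p} *
      Nat.card {z : Subgroup.centralizer ({y} : Set G) // orderOf z = m} := by
  haveI := Fact.mk hp
  obtain ⟨P⟩ : Nonempty (Sylow p G) := inferInstance
  have hP : Nat.card (P : Subgroup G) = p := by
    obtain ⟨k, hk⟩ := IsPGroup.iff_card.1 P.2
    have hd : p ∣ Nat.card P :=
      P.dvd_card_of_dvd_card (hy ▸ orderOf_dvd_natCard y)
    have hd' := Subgroup.card_subgroup_dvd_card (P : Subgroup G)
    rw [hk] at hd hd' ⊢
    rcases k with _ | _ | k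
    · simp at hd; exact absurd hd hp.ne_one
    · simp
    · exact absurd ((pow_dvd_pow p (by omega : 2 ≤ k + 2)).trans hd') hp2
  exact M23Nse.Hist.cnt_mul_eq P hP hpm hy

theorem exists_bound {y : G} {p : ℕ} (hy : orderOf y = p) (hp : p.Prime) {m a b : ℕ}
    (hp2 : ¬ p ^ 2 ∣ Nat.card G) (hcop : Nat.Coprime p m)
    (hm : ∀ z : G, z * y = y * z → z ^ (p * m) = 1)
    (hsmall : ∀ z : G, z * y = y * z → z ^ m = 1 → orderOf z = 1 ∨ orderOf z = 2 ∨ orderOf z = 3)
    (h2 : Nat.card {z : Subgroup.centralizer ({y} : Set G) // orderOf z = 2} ≤ a)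
    (h3 : Nat.card {z : Subgroup.centralizer ({y} : Set G) // orderOf z = 3} ≤ b) :
    Nat.card (Subgroup.centralizer ({y} : Set G)) ≤ p * (1 + a + b) := by
  haveI := Fintype.ofFinite G
  set C := Subgroup.centralizer ({y} : Set G)
  refine card_cent_le_mul hy hp hp2 hcop hm ?_
  have hle : Nat.card {z : G // z * y = y * z ∧ z ^ m = 1} ≤
      ((univ : Finset C).filter fun z => orderOf z = 1 ∨ orderOf z = 2 ∨ orderOf z = 3).card := by
    rw [← Fintype.card_coe, ← Nat.card_eq_fintype_card]
    refine Nat.card_le_card_of_injective (fun z => ⟨⟨z.1,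
      Subgroup.mem_centralizer_singleton_iff.2 z.2.1⟩, mem_filter.2 ⟨mem_univ _, ?_⟩⟩)
      fun z w h => Subtype.ext (congrArg (fun x => (x.1 : G)) h)
    rw [← Subgroup.orderOf_coe]
    exact hsmall _ z.2.1 z.2.2
  refine hle.trans ?_
  rw [filter_or, filter_or]
  refine (card_union_le _ _).trans ?_
  refine le_trans (Nat.add_le_add_left (card_union_le _ _) _) ?_
  rw [Nat.card_eq_fintype_card, Fintype.card_subtype] at h2 h3
  have h1 : ((univ : Finset C).filter fun z => orderOf z = 1).card ≤ 1 :=
    card_le_one.2 fun z hz w hw => by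
      rw [orderOf_eq_one_iff.1 (mem_filter.1 hz).2, orderOf_eq_one_iff.1 (mem_filter.1 hw).2]
  omega

theorem local_of_facts (F : M24Nse2.Facts G) : Local G := by
  have hmem : ∀ g : G, orderOf g = 1 ∨ orderOf g = 2 ∨ orderOf g = 3 ∨ orderOf g = 4 ∨
      orderOf g = 5 ∨ orderOf g = 6 ∨ orderOf g = 7 ∨ orderOf g = 8 ∨ orderOf g = 10 ∨
      orderOf g = 11 ∨ orderOf g = 12 ∨ orderOf g = 14 ∨ orderOf g = 15 ∨ orderOf g = 21 ∨
      orderOf g = 23 := fun g => by simpa using F.ord_mem g
  -- the part of an order prime to the order of `y`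
  have hbad : ∀ (y z : G) (p n : ℕ), orderOf y = p → z * y = y * z → orderOf z = n →
      Nat.Coprime p n → orderOf (y * z) = p * n := fun y z p n hy hc hz hcop => by
    rw [Commute.orderOf_mul_eq_mul_orderOf_of_coprime hc.symm (by rw [hy, hz]; exact hcop), hy, hz]
  have hno : ∀ g : G, ∀ n, orderOf g = n →
      n ∈ ({1, 2, 3, 4, 5, 6, 7, 8, 10, 11, 12, 14, 15, 21, 23} : Finset ℕ) :=
    fun g n h => h ▸ F.ord_mem g
  have cases5 : ∀ y z : G, orderOf y = 5 → z * y = y * z →
      orderOf z ∈ ({1, 2, 3, 5, 10, 15} : Finset ℕ) := fun y z hy hc => by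
    rcases hmem z with e | e | e | e | e | e | e | e | e | e | e | e | e | e | e <;>
      first
        | (rw [e]; decide)
        | exact absurd (hno _ _ (hbad y z 5 _ hy hc e (by norm_num))) (by decide)
  have cases7 : ∀ y z : G, orderOf y = 7 → z * y = y * z →
      orderOf z ∈ ({1, 2, 3, 7, 14, 21} : Finset ℕ) := fun y z hy hc => by
    rcases hmem z with e | e | e | e | e | e | e | e | e | e | e | e | e | e | e <;>
      first
        | (rw [e]; decide)
        | exact absurd (hno _ _ (hbad y z 7 _ hy hc e (by norm_num))) (by decide)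
  have cases11 : ∀ y z : G, orderOf y = 11 → z * y = y * z →
      orderOf z ∈ ({1, 11} : Finset ℕ) := fun y z hy hc => by
    rcases hmem z with e | e | e | e | e | e | e | e | e | e | e | e | e | e | e <;>
      first
        | (rw [e]; decide)
        | exact absurd (hno _ _ (hbad y z 11 _ hy hc e (by norm_num))) (by decide)
  refine ⟨F.card, F.simple, fun y hy => ?_, fun y hy => ?_, fun y hy => ?_⟩
  · have hp : Nat.Prime 5 := by norm_num
    have hp2 : ¬ 5 ^ 2 ∣ Nat.card G := by rw [F.card]; norm_num
    have e2 := cnt_cent (m := 2) hp hp2 (by norm_num) hy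
    have e3 := cnt_cent (m := 3) hp hp2 (by norm_num) hy
    rw [show 5 * 2 = 10 from rfl, F.c10, F.c5] at e2
    rw [show 5 * 3 = 15 from rfl, F.c15, F.c5] at e3
    refine (exists_bound hy hp (m := 6) (a := 3) (b := 8) hp2 (by norm_num)
      (fun z hc => orderOf_dvd_iff_pow_eq_one.1 ?_) (fun z hc hz => ?_) (by omega) (by omega)).trans
      (by norm_num)
    · have := cases5 y z hy hc
      revert this
      generalize orderOf z = n
      intro h
      fin_cases h <;> norm_num
    · have hd := orderOf_dvd_of_pow_eq_one hz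
      have := cases5 y z hy hc
      revert this hd
      generalize orderOf z = n
      intro hd h
      simp only [Finset.mem_insert, Finset.mem_singleton] at h
      rcases h with rfl | rfl | rfl | rfl | rfl | rfl <;> first | decide | norm_num at hd
  · have hp : Nat.Prime 7 := by norm_num
    have hp2 : ¬ 7 ^ 2 ∣ Nat.card G := by rw [F.card]; norm_num
    have e2 := cnt_cent (m := 2) hp hp2 (by norm_num) hy
    have e3 := cnt_cent (m := 3) hp hp2 (by norm_num) hy
    rw [show 7 * 2 = 14 from rfl, F.c14, F.c7] at e2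
    rw [show 7 * 3 = 21 from rfl, F.c21, F.c7] at e3
    refine (exists_bound hy hp (m := 6) (a := 3) (b := 2) hp2 (by norm_num)
      (fun z hc => orderOf_dvd_iff_pow_eq_one.1 ?_) (fun z hc hz => ?_) (by omega) (by omega)).trans
      (by norm_num)
    · have := cases7 y z hy hc
      revert this
      generalize orderOf z = n
      intro h
      fin_cases h <;> norm_num
    · have hd := orderOf_dvd_of_pow_eq_one hz
      have := cases7 y z hy hc
      revert this hd
      generalize orderOf z = n
      intro hd h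
      simp only [Finset.mem_insert, Finset.mem_singleton] at h
      rcases h with rfl | rfl | rfl | rfl | rfl | rfl <;> first | decide | norm_num at hd
  · refine (card_cent_le_mul hy (by norm_num) (m := 1) (k := 1) (by rw [F.card]; norm_num)
      (by norm_num) (fun z hc => orderOf_dvd_iff_pow_eq_one.1 ?_) ?_).trans (by norm_num)
    · have := cases11 y z hy hc
      revert this
      generalize orderOf z = n
      intro h
      fin_cases h <;> norm_num
    · haveI : Subsingleton {z : G // z * y = y * z ∧ z ^ 1 = 1} :=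
        ⟨fun a b => Subtype.ext (by have := a.2.2; have := b.2.2; simp_all)⟩
      exact Finite.card_le_one_iff_subsingleton.2 inferInstance

end Cfsg.Agent.Lib.M24Nse52
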