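import Cfsg.Agent.Lib.M24Nse52.Core
import Cfsg.Agent.Lib.M24Nse52.Act

/-!
The stabiliser of four points: its normal subgroup of order sixteen has five orbits of size four,
and any involution fixing the four points and one further point fixes exactly that orbit.
-/

set_option autoImplicit false

open Finset
open scoped Classical Pointwise

namespace Cfsg.Agent.Lib.M24Nse52

open Cfsg.Agent.Lib.M22Nse57 (fix mem_fix fix_modEq)

universe u v

theorem exists_commutator_eq :
    ∀ π : Equiv.Perm (Fin 4), Equiv.Perm.sign π = 1 → ∃ σ τ : Equiv.Perm (Fin 4),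
      (τ * σ)⁻¹ * (σ * τ) = π := by
  decide +kernel

theorem card_even : (univ.filter fun π : Equiv.Perm (Fin 4) => Equiv.Perm.sign π = 1).card = 12 := by
  decide +kernel

theorem exists_inv_pow {G : Type u} [Group G] {g : G} {n : ℕ} (h : g ^ 2 ^ n = 1) (hg : g ≠ 1) :
    ∃ m : ℕ, orderOf (g ^ m) = 2 := by
  haveI : Fact (Nat.Prime 2) := ⟨Nat.prime_two⟩
  induction n with
  | zero => simp at h; exact absurd h hg
  | succ n ih =>
    by_cases h' : g ^ 2 ^ n = 1
    · exact ih h'
    · exact ⟨2 ^ n, orderOf_eq_prime (by rw [← pow_mul, ← pow_succ]; exact h) h'⟩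

theorem exists_even_map {α : Type*} [Fintype α] [DecidableEq α] (hα : 4 ≤ Fintype.card α)
    {a b c d : α} (hab : a ≠ b) (hcd : c ≠ d) :
    ∃ σ ∈ alternatingGroup α, σ a = c ∧ σ b = d := by
  haveI := alternatingGroup.isMultiplyPretransitive α
  haveI : MulAction.IsMultiplyPretransitive (alternatingGroup α) α 2 :=
    MulAction.isMultiplyPretransitive_of_le
      (show 2 ≤ Nat.card α - 2 by rw [Nat.card_eq_fintype_card]; omega)
      (Nat.sub_le _ _)
  obtain ⟨g, h1, h2⟩ := MulAction.is_two_pretransitive_iff.1 ‹_› hab hcd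
  exact ⟨g, g.2, h1, h2⟩

variable {G : Type u} [Group G] {X : Type v} [MulAction G X] [Fintype G] [Fintype X]

namespace Act

variable (D : Act G X)
include D

theorem fix_two_power {g : G} {n : ℕ} (h : g ^ 2 ^ n = 1) (hg : g ≠ 1) :
    (fix (X := X) g).card ≤ 12 := by
  obtain ⟨m, hm⟩ := exists_inv_pow h hg
  refine le_trans (card_le_card fun x hx => mem_fix.2 ?_) (D.fix_inv hm)
  have hmem : g ∈ MulAction.stabilizer G x := mem_fix.1 hx
  exact pow_mem hmem m

theorem card_quad (e : Fin 4 ↪ X) : Nat.card (MulAction.stabilizer G e) = 960 := by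
  have h := D.card_stab D.four_trans e
  rw [show Nat.descFactorial 24 4 = 255024 from rfl] at h
  omega

/-- The normaliser of a subgroup of order five induces every permutation of its fixed points. -/
theorem exists_perm (e : Fin 4 ↪ X) (y : MulAction.stabilizer G e) (hy : orderOf y = 5)
    (σ : Equiv.Perm (Fin 4)) :
    ∃ g : G, (∀ i, g • e i = e (σ i)) ∧ g * (y : G) * g⁻¹ ∈ Subgroup.zpowers (y : G) := by
  haveI : Fact (Nat.Prime 5) := ⟨by norm_num⟩
  haveI : MulAction.IsPretransitive G (Fin 4 ↪ X) := D.four_trans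
  obtain ⟨g, hg⟩ := MulAction.exists_smul_eq G e (σ.toEmbedding.trans e)
  have hgi : ∀ i, g • e i = e (σ i) := fun i => DFunLike.congr_fun hg i
  have hmem : g * (y : G) * g⁻¹ ∈ MulAction.stabilizer G e := by
    refine DFunLike.ext _ _ fun i => ?_
    show (g * (y : G) * g⁻¹) • e i = e i
    obtain ⟨j, rfl⟩ := σ.surjective i
    rw [← hgi j, mul_smul, inv_smul_smul, mul_smul,
      show (y : G) • e j = e j from DFunLike.congr_fun (y.2 : (y : G) • e = e) j]
  set y' : MulAction.stabilizer G e := ⟨g * (y : G) * g⁻¹, hmem⟩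
  have hy' : orderOf y' = 5 := by
    rw [← Subgroup.orderOf_coe]
    exact (orderOf_injective (MulAut.conj g).toMonoidHom (MulAut.conj g).injective (y : G)).trans
      ((Subgroup.orderOf_coe y).trans hy)
  have hK := D.card_quad e
  let P : Sylow 5 (MulAction.stabilizer G e) := Sylow.ofCard (Subgroup.zpowers y) (by
    rw [Nat.card_zpowers, hy, hK, show (960 : ℕ) = 5 ^ 1 * 192 by norm_num,
      Nat.factorization_mul (by norm_num) (by norm_num), Nat.Prime.factorization_pow (by norm_num)]
    simp [Nat.factorization_eq_zero_of_not_dvd (show ¬ 5 ∣ 192 by norm_num)])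
  let P' : Sylow 5 (MulAction.stabilizer G e) := Sylow.ofCard (Subgroup.zpowers y') (by
    rw [Nat.card_zpowers, hy', hK, show (960 : ℕ) = 5 ^ 1 * 192 by norm_num,
      Nat.factorization_mul (by norm_num) (by norm_num), Nat.Prime.factorization_pow (by norm_num)]
    simp [Nat.factorization_eq_zero_of_not_dvd (show ¬ 5 ∣ 192 by norm_num)])
  obtain ⟨h, hh⟩ := MulAction.exists_smul_eq (MulAction.stabilizer G e) P' P
  have hc : h * y' * h⁻¹ ∈ Subgroup.zpowers y := by
    have : h * y' * h⁻¹ ∈ ((h • P' : Sylow 5 (MulAction.stabilizer G e)) : Subgroup _) :=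
      Subgroup.smul_mem_pointwise_smul y' (MulAut.conj h) P'.1 (Subgroup.mem_zpowers y')
    rw [hh] at this
    exact this
  refine ⟨(h : G) * g, fun i => ?_, ?_⟩
  · rw [mul_smul, hgi]
    exact DFunLike.congr_fun (h.2 : (h : G) • e = e) (σ i)
  · obtain ⟨k, hk⟩ := hc
    refine ⟨k, ?_⟩
    have := congrArg Subtype.val hk
    simp only [Subgroup.coe_zpow, Subgroup.coe_mul, Subgroup.coe_inv] at this ⊢
    rw [this]
    show (h : G) * (g * (y : G) * g⁻¹) * (h : G)⁻¹ = _
    group

/-- In the stabiliser of four points elements of order five are self-centralising. -/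
theorem selfCent (e : Fin 4 ↪ X) : SelfCent (MulAction.stabilizer G e) := by
  intro y z hy hz
  choose g hg1 hg2 using D.exists_perm e y hy
  have hcomm : ∀ σ τ, (g τ * g σ)⁻¹ * (g σ * g τ) ∈ Subgroup.centralizer ({(y : G)} : Set G) := by
    intro σ τ
    obtain ⟨i, hi⟩ := hg2 σ
    obtain ⟨j, hj⟩ := hg2 τ
    simp only at hi hj
    have e1 : (g σ * g τ) * (y : G) * (g σ * g τ)⁻¹ = (g τ * g σ) * (y : G) * (g τ * g σ)⁻¹ := by
      calc (g σ * g τ) * (y : G) * (g σ * g τ)⁻¹
          = g σ * (g τ * (y : G) * (g τ)⁻¹) * (g σ)⁻¹ := by group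
        _ = (y : G) ^ (i * j) := by rw [← hj, ← conj_zpow, ← hi, ← zpow_mul]
        _ = g τ * (g σ * (y : G) * (g σ)⁻¹) * (g τ)⁻¹ := by
            rw [← hi, ← conj_zpow, ← hj, ← zpow_mul, mul_comm]
        _ = (g τ * g σ) * (y : G) * (g τ * g σ)⁻¹ := by group
    rw [Subgroup.mem_centralizer_singleton_iff]
    calc (g τ * g σ)⁻¹ * (g σ * g τ) * (y : G)
        = (g τ * g σ)⁻¹ * ((g σ * g τ) * (y : G) * (g σ * g τ)⁻¹) * (g σ * g τ) := by group
      _ = (g τ * g σ)⁻¹ * ((g τ * g σ) * (y : G) * (g τ * g σ)⁻¹) * (g σ * g τ) := by rw [e1]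
      _ = (y : G) * ((g τ * g σ)⁻¹ * (g σ * g τ)) := by group
  have hact : ∀ σ τ i, ((g τ * g σ)⁻¹ * (g σ * g τ)) • e i = e (((τ * σ)⁻¹ * (σ * τ)) i) := by
    intro σ τ i
    rw [mul_smul, inv_smul_eq_iff, mul_smul, mul_smul, hg1, hg1, hg1, hg1]
    congr 1
    simp
  choose s t hst using exists_commutator_eq
  set A := univ.filter fun π : Equiv.Perm (Fin 4) => Equiv.Perm.sign π = 1
  set CK : Subgroup G :=
    Subgroup.centralizer ({(y : G)} : Set G) ⊓ MulAction.stabilizer G e
  have hinj : Nat.card (CK × {π // π ∈ A}) ≤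
      Nat.card (Subgroup.centralizer ({(y : G)} : Set G)) := by
    refine Nat.card_le_card_of_injective (fun p =>
      ⟨(g (t p.2.1 (mem_filter.1 p.2.2).2) * g (s p.2.1 (mem_filter.1 p.2.2).2))⁻¹ *
        (g (s p.2.1 (mem_filter.1 p.2.2).2) * g (t p.2.1 (mem_filter.1 p.2.2).2)) * (p.1 : G),
        mul_mem (hcomm _ _) p.1.2.1⟩) fun p q hpq => ?_
    have heq := congrArg Subtype.val hpq
    simp only at heq
    have key : ∀ p : CK × {π // π ∈ A}, ∀ i,
        ((g (t p.2.1 (mem_filter.1 p.2.2).2) * g (s p.2.1 (mem_filter.1 p.2.2).2))⁻¹ *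
        (g (s p.2.1 (mem_filter.1 p.2.2).2) * g (t p.2.1 (mem_filter.1 p.2.2).2)) * (p.1 : G)) •
          e i = e (p.2.1 i) := fun p i => by
      rw [mul_smul, show (p.1 : G) • e i = e i from
        DFunLike.congr_fun (p.1.2.2 : (p.1 : G) • e = e) i, hact, hst]
    have h2 : p.2 = q.2 := Subtype.ext <| Equiv.ext fun i => e.injective <| by
      rw [← key p i, ← key q i, heq]
    obtain ⟨p1, p2⟩ := p
    obtain ⟨q1, q2⟩ := q
    simp only at h2
    subst h2
    exact Prod.ext (Subtype.ext (mul_left_cancel heq)) rfl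
  have hy5 : orderOf (y : G) = 5 := by rw [Subgroup.orderOf_coe]; exact hy
  rw [Nat.card_prod, Nat.card_eq_fintype_card (α := {π // π ∈ A}), Fintype.card_coe, card_even]
    at hinj
  have h60 := D.loc.cent5 _ hy5
  have hyCK : (y : G) ∈ CK := ⟨Subgroup.mem_centralizer_singleton_iff.2 rfl, y.2⟩
  have hd : 5 ∣ Nat.card CK := hy5 ▸ Subgroup.orderOf_dvd_natCard CK hyCK
  have h5 : Nat.card CK = 5 := by
    have := Nat.le_of_dvd Nat.card_pos hd
    omega
  have hzCK : (z : G) ∈ CK :=
    ⟨Subgroup.mem_centralizer_singleton_iff.2 (congrArg Subtype.val hz), z.2⟩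
  refine orderOf_dvd_iff_pow_eq_one.1 ?_
  rw [← Subgroup.orderOf_coe, ← h5]
  exact Subgroup.orderOf_dvd_natCard CK hzCK

/-- The data of a four-point stabiliser: a fixed point set for each further point. -/
theorem exists_block (e : Fin 4 ↪ X) (x : X) (hx : ∀ i, e i ≠ x) :
    ∃ B : Finset X, B.card = 8 ∧ (∀ i, e i ∈ B) ∧ x ∈ B ∧
      (∃ t : G, orderOf t = 2 ∧ fix (X := X) t = B) ∧
      ∀ t : G, orderOf t = 2 → (∀ i, t • e i = e i) → t • x = x → fix (X := X) t = B := by
  haveI : Fact (Nat.Prime 5) := ⟨by norm_num⟩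
  set K := MulAction.stabilizer G e
  have hK : Nat.card K = 960 := D.card_quad e
  obtain ⟨R, hRn, hR, hRc, hmax⟩ := exists_core (L := K) (D.selfCent e) hK
  set E : Finset X := univ.map e
  set Y : Finset X := univ \ E
  have hE : E.card = 4 := by simp [E]
  have hY : Y.card = 20 := by
    rw [card_sdiff_of_subset (subset_univ _), D.card_univ24, hE]
  have hKe : ∀ (k : K) (i : Fin 4), k • e i = e i := fun k i =>
    DFunLike.congr_fun (k.2 : (k : G) • e = e) i
  have hKY : ∀ (k : K) {z : X}, z ∈ Y → k • z ∈ Y := fun k z hz => by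
    refine mem_sdiff.2 ⟨mem_univ _, fun h => (mem_sdiff.1 hz).2 ?_⟩
    obtain ⟨i, -, hi⟩ := mem_map.1 h
    exact mem_map.2 ⟨i, mem_univ _, smul_left_cancel k ((hKe k i).trans hi)⟩
  set RS : Finset K := univ.filter fun r => r ∈ R
  have hRS : RS.card = 16 := by
    rw [← hR, Nat.card_eq_fintype_card, Fintype.card_subtype]
  let O : X → Finset X := fun z => RS.image fun r => r • z
  have mem_O : ∀ {z w}, w ∈ O z ↔ ∃ r ∈ R, r • z = w := fun {z w} => by simp [O, RS]
  have hOz : ∀ z, z ∈ O z := fun z => mem_O.2 ⟨1, one_mem R, one_smul K z⟩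
  have hOeq : ∀ {z w}, w ∈ O z → O w = O z := fun {z w} h => by
    obtain ⟨r, hr, rfl⟩ := mem_O.1 h
    ext u
    rw [mem_O, mem_O]
    constructor
    · rintro ⟨r', hr', rfl⟩
      exact ⟨r' * r, mul_mem hr' hr, mul_smul r' r z⟩
    · rintro ⟨r', hr', rfl⟩
      exact ⟨r' * r⁻¹, mul_mem hr' (inv_mem hr), by rw [mul_smul, inv_smul_smul]⟩
  have hOsmul : ∀ (k : K) z, k • O z = O (k • z) := fun k z => by
    ext u
    rw [mem_smul_finset, mem_O]
    constructor
    · rintro ⟨w, hw, rfl⟩
      obtain ⟨r, hr, rfl⟩ := mem_O.1 hw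
      exact ⟨k * r * k⁻¹, hRn.conj_mem r hr k, by simp [mul_smul]⟩
    · rintro ⟨r, hr, rfl⟩
      refine ⟨(k⁻¹ * r * k) • z, mem_O.2 ⟨_, ?_, rfl⟩, by simp [mul_smul]⟩
      simpa using hRn.conj_mem r hr k⁻¹
  -- orbit-stabiliser
  let St : X → ℕ := fun z => (RS.filter fun r => r • z = z).card
  have hos : ∀ z, St z * (O z).card = 16 := fun z => by
    rw [← hRS, card_eq_sum_card_fiberwise (f := fun r : K => r • z) (t := O z)
      fun r hr => mem_image_of_mem _ hr, mul_comm, ← smul_eq_mul, ← sum_const]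
    refine sum_congr rfl fun w hw => ?_
    obtain ⟨r, hr, rfl⟩ := mem_O.1 hw
    refine card_equiv (Equiv.mulLeft r) fun q => ?_
    simp only [RS, mem_filter, mem_univ, true_and, Equiv.coe_mulLeft, mul_smul,
      smul_left_cancel_iff, Subgroup.mul_mem_cancel_left R hr]
  set W : Finset (Finset X) := Y.image O
  have hsumW : ∑ z ∈ Y, St z = W.card * 16 := by
    rw [← sum_fiberwise_of_maps_to (g := O) (t := W) fun z hz => mem_image_of_mem _ hz,
      ← smul_eq_mul, ← sum_const]
    refine sum_congr rfl fun o ho => ?_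
    obtain ⟨z, hz, rfl⟩ := mem_image.1 ho
    have hfib : Y.filter (fun w => O w = O z) = O z := by
      ext w
      rw [mem_filter]
      refine ⟨fun h => h.2 ▸ hOz w, fun h => ⟨?_, hOeq h⟩⟩
      obtain ⟨r, -, rfl⟩ := mem_O.1 h
      exact hKY r hz
    have hc : ∀ w ∈ O z, St w * (O z).card = 16 := fun w hw => hOeq hw ▸ hos w
    rw [hfib]
    have hpos : 0 < (O z).card := card_pos.2 ⟨z, hOz z⟩
    rw [sum_congr rfl (fun w hw => Nat.eq_of_mul_eq_mul_right hpos ((hc w hw).trans (hos z).symm)),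
      sum_const, smul_eq_mul, mul_comm]
    exact hos z
  have hswap : ∑ z ∈ Y, St z = ∑ r ∈ RS, (Y.filter fun z => r • z = z).card := by
    simp only [St, card_filter]
    exact sum_comm
  have hsplit : ∀ k : K, (Y.filter fun z => k • z = z).card + 4 = (fix (X := X) (k : G)).card :=
    fun k => by
      rw [← hE, ← card_union_of_disjoint (sdiff_disjoint.mono_left (filter_subset _ _))]
      congr 1
      ext z
      rw [mem_union, mem_filter, mem_fix]
      constructor
      · rintro (⟨-, h⟩ | h)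
        · exact h
        · obtain ⟨i, -, rfl⟩ := mem_map.1 h; exact hKe k i
      · intro h
        by_cases hz : z ∈ E
        · exact Or.inr hz
        · exact Or.inl ⟨mem_sdiff.2 ⟨mem_univ _, hz⟩, h⟩
  have hr8 : ∀ r ∈ RS.erase 1, (Y.filter fun z => r • z = z).card ≤ 8 := fun r hr => by
    obtain ⟨hr1, hrR⟩ := mem_erase.1 hr
    have h16 : r ^ 2 ^ 4 = 1 := by
      have := Subgroup.orderOf_dvd_natCard R (mem_filter.1 hrR).2
      rw [hR] at this
      exact orderOf_dvd_iff_pow_eq_one.1 this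
    have := D.fix_two_power (g := (r : G)) (n := 4)
      (by rw [← Subgroup.coe_pow, h16]; rfl) fun e' => hr1 (Subtype.ext e')
    have := hsplit r
    omega
  have h1RS : (1 : K) ∈ RS := mem_filter.2 ⟨mem_univ _, one_mem R⟩
  have hone : (Y.filter fun z => (1 : K) • z = z).card = 20 := by
    rw [filter_true_of_mem fun z _ => one_smul K z, hY]
  rw [hswap, ← add_sum_erase _ _ h1RS, hone] at hsumW
  have hRS1 : (RS.erase 1).card = 15 := by rw [card_erase_of_mem h1RS, hRS]
  have hle := sum_le_card_nsmul _ _ 8 hr8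
  rw [hRS1, smul_eq_mul] at hle
  -- an element of order five moves every orbit
  obtain ⟨y, hy⟩ := exists_prime_orderOf_dvd_card' (G := K) 5 (by rw [hK]; norm_num)
  have hyG : orderOf (y : G) = 5 := by rw [Subgroup.orderOf_coe]; exact hy
  have hyY : ∀ z ∈ Y, y • z ≠ z := fun z hz he => by
    have h0 := hsplit y
    rw [D.fix_five hyG] at h0
    have : 0 < (Y.filter fun z => y • z = z).card := card_pos.2 ⟨z, mem_filter.2 ⟨hz, he⟩⟩
    omega
  have hWK : ∀ (k : K) {o}, o ∈ W → k • o ∈ W := fun k o ho => by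
    obtain ⟨z, hz, rfl⟩ := mem_image.1 ho
    exact hOsmul k z ▸ mem_image_of_mem _ (hKY k hz)
  have hymove : ∀ o ∈ W, y • o ≠ o := fun o ho he => by
    obtain ⟨z, hz, rfl⟩ := mem_image.1 ho
    have hm := fix_modEq (p := 5) (by norm_num) 1 y (O z)
      (fun w hw => he ▸ smul_mem_smul_finset hw)
      fun w _ => by rw [pow_one, ← hy, pow_orderOf_eq_one, one_smul]
    have h0 : ((O z).filter fun w => y • w = w).card = 0 := by
      refine card_eq_zero.2 (filter_eq_empty_iff.2 fun w hw => hyY w ?_)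
      obtain ⟨r, -, rfl⟩ := mem_O.1 hw
      exact hKY r hz
    rw [h0] at hm
    have hd : (O z).card ∣ 2 ^ 4 := ⟨St z, by rw [mul_comm]; exact (hos z).symm⟩
    obtain ⟨k, hk, hk'⟩ := (Nat.dvd_prime_pow Nat.prime_two).1 hd
    rw [hk'] at hm
    unfold Nat.ModEq at hm
    interval_cases k <;> omega
  have hW5 : W.card = 5 := by
    have hm := fix_modEq (G := K) (p := 5) (by norm_num) 1 y W (fun o ho => hWK y ho)
      fun o _ => by rw [pow_one, ← hy, pow_orderOf_eq_one, one_smul]
    have hm' : W.card % 5 = 0 := hm.trans (congrArg (· % 5)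
      (card_eq_zero.2 (eq_empty_of_forall_notMem fun o ho => by
        simp only [mem_filter] at ho; exact hymove o ho.1 ho.2)))
    have hpos : 0 < W.card :=
      card_pos.2 (Nonempty.image (card_pos.1 (by rw [hY]; norm_num)) O)
    omega
  have hsum60 : ∑ r ∈ RS.erase 1, (Y.filter fun z => r • z = z).card = 60 := by omega
  -- the permutations of the five orbits
  let φ : K →* Equiv.Perm {o // o ∈ W} :=
    { toFun := fun k =>
        { toFun := fun o => ⟨k • o.1, hWK k o.2⟩
          invFun := fun o => ⟨k⁻¹ • o.1, hWK k⁻¹ o.2⟩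
          left_inv := fun o => Subtype.ext (inv_smul_smul k o.1)
          right_inv := fun o => Subtype.ext (smul_inv_smul k o.1) }
      map_one' := Equiv.ext fun o => Subtype.ext (one_smul K o.1)
      map_mul' := fun k l => Equiv.ext fun o => Subtype.ext (mul_smul k l o.1) }
  have hcW : Fintype.card {o // o ∈ W} = 5 := by rw [Fintype.card_coe, hW5]
  have hφy : orderOf (φ y) = 5 := by
    refine orderOf_eq_prime (by rw [← map_pow, ← hy, pow_orderOf_eq_one, map_one]) fun h1 => ?_
    obtain ⟨o, ho⟩ := card_pos.1 (show 0 < W.card by omega)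
    exact hymove o ho (congrArg Subtype.val (Equiv.congr_fun h1 ⟨o, ho⟩))
  have hcyc : (φ y).IsCycle :=
    Equiv.Perm.isCycle_of_prime_order'' (by rw [hcW]; norm_num) (by rw [hφy, hcW])
  have hsupp : (φ y).support = univ :=
    Finset.eq_univ_of_card _ (by rw [← hcyc.orderOf, hφy, hcW])
  have hRker : R ≤ φ.ker := fun r hr => Equiv.ext fun o => Subtype.ext (by
    obtain ⟨z, hz, e'⟩ := mem_image.1 o.2
    show r • o.1 = o.1
    rw [← e', hOsmul]
    exact hOeq (mem_O.2 ⟨r, hr, rfl⟩))
  have hprod : Nat.card φ.ker * Nat.card φ.range = 960 := by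
    rw [← hK, ← Subgroup.index_ker φ]
    exact φ.ker.card_mul_index
  have h5r : 5 ∣ Nat.card φ.range := hφy ▸ Subgroup.orderOf_dvd_natCard φ.range ⟨y, rfl⟩
  have hker5 : ¬ 5 ∣ Nat.card φ.ker := fun h => by
    have := Nat.mul_dvd_mul h h5r
    rw [hprod] at this
    norm_num at this
  have hkerR : φ.ker ≤ R := hmax _ φ.normal_ker hker5
  -- all orbits have four points
  have hO4 : ∀ z ∈ Y, (O z).card = 4 := by
    intro z hz
    let o0 : {o // o ∈ W} := ⟨O z, mem_image_of_mem _ hz⟩
    have hall : ∀ o : {o // o ∈ W}, o.1.card = (O z).card := fun o => by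
      obtain ⟨i, hi⟩ := hcyc.sameCycle (x := o0) (y := o)
        (Equiv.Perm.mem_support.1 (hsupp ▸ mem_univ _))
        (Equiv.Perm.mem_support.1 (hsupp ▸ mem_univ _))
      rw [← map_zpow] at hi
      rw [← hi]
      exact card_smul_finset (y ^ i) (O z)
    have h20 := card_eq_sum_card_fiberwise (f := O) (t := W) (s := Y)
      fun w hw => mem_image_of_mem _ hw
    have hfib : ∀ o ∈ W, (Y.filter fun w => O w = o).card = (O z).card := by
      intro o ho
      obtain ⟨w, hw, rfl⟩ := mem_image.1 ho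
      refine Eq.trans (congrArg Finset.card ?_) (hall ⟨O w, mem_image_of_mem _ hw⟩)
      ext u
      rw [mem_filter]
      refine ⟨fun h => (Finset.ext_iff.1 h.2 u).1 (hOz u), fun h => ⟨?_, hOeq h⟩⟩
      obtain ⟨r, -, rfl⟩ := mem_O.1 h
      exact hKY r hw
    rw [hY, sum_congr rfl hfib, sum_const, hW5, smul_eq_mul] at h20
    omega
  have hOY : ∀ z ∈ Y, ∀ w ∈ O z, w ∈ Y := fun z hz w hw => by
    obtain ⟨r, -, rfl⟩ := mem_O.1 hw
    exact hKY r hz
  have hxY : x ∈ Y := mem_sdiff.2 ⟨mem_univ _, fun h => by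
    obtain ⟨i, -, hi⟩ := mem_map.1 h
    exact hx i hi⟩
  have hBdis : Disjoint E (O x) := disjoint_left.2 fun w h1 h2 =>
    (mem_sdiff.1 (hOY x hxY w h2)).2 h1
  -- a nontrivial element of the subgroup of order sixteen fixes at most one orbit
  have hkereq : φ.ker = R := le_antisymm hkerR hRker
  have hrange : φ.range = alternatingGroup {o // o ∈ W} := by
    refine Equiv.Perm.eq_alternatingGroup_of_index_eq_two ?_
    have h := φ.range.card_mul_index
    rw [Nat.card_eq_fintype_card (α := Equiv.Perm {o // o ∈ W}), Fintype.card_perm, hcW,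
      show (5 : ℕ).factorial = 120 from rfl] at h
    rw [hkereq, hR] at hprod
    have h60 : Nat.card φ.range = 60 := by omega
    rw [h60] at h
    omega
  have hfixO : ∀ r ∈ R, ∀ z ∈ Y, r • z = z → O z ⊆ Y.filter fun z => r • z = z :=
    fun r hr z hz hrz u hu => by
      refine mem_filter.2 ⟨hOY z hz u hu, ?_⟩
      obtain ⟨r', hr', rfl⟩ := mem_O.1 hu
      rw [← mul_smul, hRc r hr r' hr', mul_smul, hrz]
  have hone1 : ∀ r ∈ R, r ≠ 1 → ∀ z ∈ Y, ∀ w ∈ Y, r • z = z → r • w = w → w ∈ O z := by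
    intro r hr hr1 z hz w hw hrz hrw
    by_contra hwz
    let a : {o // o ∈ W} := ⟨O z, mem_image_of_mem _ hz⟩
    let b : {o // o ∈ W} := ⟨O w, mem_image_of_mem _ hw⟩
    have hab : a ≠ b := fun h => hwz (by
      rw [show O z = O w from congrArg Subtype.val h]; exact hOz w)
    -- every pair of orbits is fixed pointwise by some nontrivial element
    have hpair : ∀ P ∈ (univ : Finset {o // o ∈ W}).powersetCard 2, ∃ q ∈ RS.erase 1,
        ∀ o ∈ P, o.1 ⊆ Y.filter fun z => q • z = z := by
      intro P hP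
      obtain ⟨c, d, hcd, rfl⟩ := card_eq_two.1 (mem_powersetCard.1 hP).2
      obtain ⟨k, hka, hkb⟩ : ∃ k : K, φ k a = c ∧ φ k b = d := by
        obtain ⟨σ, hσ, hσa, hσb⟩ := exists_even_map (by rw [hcW]; norm_num) hab hcd
        obtain ⟨k, rfl⟩ := (MonoidHom.mem_range).1 (hrange.symm ▸ hσ : σ ∈ φ.range)
        exact ⟨k, hσa, hσb⟩
      refine ⟨k * r * k⁻¹, mem_erase.2 ⟨fun h => hr1 (conj_eq_one_iff.1 h),
        mem_filter.2 ⟨mem_univ _, hRn.conj_mem r hr k⟩⟩, fun o ho u hu => ?_⟩
      have hu' : ∃ v ∈ O z ∪ O w, u = k • v := by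
        rcases mem_insert.1 ho with rfl | ho
        · rw [← hka] at hu
          obtain ⟨v, hv, rfl⟩ := mem_smul_finset.1 (show u ∈ k • O z from hu)
          exact ⟨v, mem_union_left _ hv, rfl⟩
        · rw [mem_singleton.1 ho, ← hkb] at hu
          obtain ⟨v, hv, rfl⟩ := mem_smul_finset.1 (show u ∈ k • O w from hu)
          exact ⟨v, mem_union_right _ hv, rfl⟩
      obtain ⟨v, hv, rfl⟩ := hu'
      have hv' : v ∈ Y.filter fun z => r • z = z := by
        rcases mem_union.1 hv with h | h
        · exact hfixO r hr z hz hrz h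
        · exact hfixO r hr w hw hrw h
      obtain ⟨hvY, hvr⟩ := mem_filter.1 hv'
      exact mem_filter.2 ⟨hKY k hvY, by rw [mul_smul, mul_smul, inv_smul_smul, hvr]⟩
    choose! q hq1 hq2 using hpair
    set P2 := (univ : Finset {o // o ∈ W}).powersetCard 2
    have hOcard : ∀ o : {o // o ∈ W}, o.1.card = 4 := fun o => by
      obtain ⟨u, hu, e'⟩ := mem_image.1 o.2
      rw [← e', hO4 u hu]
    have hdisj : ∀ o o' : {o // o ∈ W}, o ≠ o' → Disjoint o.1 o'.1 := fun o o' hne => by
      obtain ⟨u, -, e1⟩ := mem_image.1 o.2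
      obtain ⟨v, -, e2⟩ := mem_image.1 o'.2
      rw [← e1, ← e2]
      exact disjoint_left.2 fun s h1 h2 =>
        hne (Subtype.ext (e1 ▸ e2 ▸ (hOeq h1).symm.trans (hOeq h2)))
    -- the fixed set of such an element is exactly the two orbits
    have hex2 : ∀ P ∈ P2, P.biUnion (fun o => o.1) = Y.filter fun z => q P • z = z := fun P hP => by
      refine eq_of_subset_of_card_le (biUnion_subset.2 fun o ho => hq2 P hP o ho) ?_
      rw [card_biUnion fun o _ o' _ hne => hdisj o o' hne, sum_congr rfl fun o _ => hOcard o,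
        sum_const, (mem_powersetCard.1 hP).2]
      exact hr8 _ (hq1 P hP)
    have hinj : Set.InjOn q P2 := fun P hP P' hP' e' => by
      have h2 : P.biUnion (fun o => o.1) = P'.biUnion (fun o => o.1) := by
        rw [hex2 P hP, hex2 P' hP', e']
      refine eq_of_subset_of_card_le (fun o ho => ?_)
        (by rw [(mem_powersetCard.1 hP).2, (mem_powersetCard.1 hP').2])
      obtain ⟨u, hu⟩ := card_pos.1 (show 0 < o.1.card by rw [hOcard]; norm_num)
      obtain ⟨o', ho', hu'⟩ := mem_biUnion.1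
        (h2 ▸ mem_biUnion.2 ⟨o, ho, hu⟩ : u ∈ P'.biUnion fun o => o.1)
      by_contra hno
      exact disjoint_left.1 (hdisj o o' fun h => hno (h ▸ ho')) hu hu'
    have h10 : P2.card = 10 := by
      rw [card_powersetCard, Finset.card_univ, hcW]; rfl
    have hbig := sum_le_sum_of_subset (f := fun r : K => (Y.filter fun z => r • z = z).card)
      (show P2.image q ⊆ RS.erase 1 from image_subset_iff.2 hq1)
    rw [sum_image hinj, sum_congr rfl (fun P hP => show _ = 8 from ?_), sum_const, h10, hsum60,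
      smul_eq_mul] at hbig
    · omega
    rw [← hex2 P hP, card_biUnion fun o _ o' _ hne => hdisj o o' hne,
      sum_congr rfl fun o _ => hOcard o, sum_const, (mem_powersetCard.1 hP).2]
    rfl
  have huniq : ∀ t : G, orderOf t = 2 → (∀ i, t • e i = e i) → t • x = x →
      fix (X := X) t = E ∪ O x := by
    intro t ht hte htx
    set k : K := ⟨t, DFunLike.ext _ _ hte⟩
    have hk2 : orderOf k = 2 := by rw [← Subgroup.orderOf_coe]; exact ht
    have hxk : x ∈ Y.filter fun z => k • z = z := mem_filter.2 ⟨hxY, htx⟩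
    have hsub : (Y.filter fun z => k • z = z) ⊆ O x := by
      intro w hw
      obtain ⟨hwY, hwk⟩ := mem_filter.1 hw
      by_contra hwx
      by_cases hkR : k ∈ R
      · exact hwx (hone1 k hkR (fun h => by rw [h, orderOf_one] at hk2; norm_num at hk2)
          x hxY w hwY htx hwk)
      · set σ := φ k
        have hσ1 : σ ≠ 1 := fun h => hkR (hkerR h)
        have hσ2 : orderOf σ = 2 := by
          haveI : Fact (Nat.Prime 2) := ⟨Nat.prime_two⟩
          exact orderOf_eq_prime (by rw [← map_pow, ← hk2, pow_orderOf_eq_one, map_one]) hσ1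
        let a : {o // o ∈ W} := ⟨O x, mem_image_of_mem _ hxY⟩
        let b : {o // o ∈ W} := ⟨O w, mem_image_of_mem _ hwY⟩
        have ha : σ a = a := Subtype.ext (by
          show k • O x = O x
          rw [hOsmul, show k • x = x from htx])
        have hb : σ b = b := Subtype.ext (by
          show k • O w = O w
          rw [hOsmul, hwk])
        have hab : a ≠ b := fun h => hwx (by
          rw [show O x = O w from congrArg Subtype.val h]; exact hOz w)
        have hs3 : σ.support ⊆ univ \ {a, b} := fun o ho => by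
          refine mem_sdiff.2 ⟨mem_univ _, fun h => Equiv.Perm.mem_support.1 ho ?_⟩
          rcases mem_insert.1 h with rfl | h
          · exact ha
          · rw [mem_singleton.1 h]; exact hb
        have hle3 := card_le_card hs3
        rw [card_sdiff_of_subset (subset_univ _), Finset.card_univ, hcW, card_pair hab] at hle3
        obtain ⟨n, hn⟩ := Equiv.Perm.cycleType_prime_order (σ := σ) (by rw [hσ2]; norm_num)
        rw [hσ2] at hn
        have hs := Equiv.Perm.sum_cycleType σ
        rw [hn, Multiset.sum_replicate, smul_eq_mul] at hs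
        have hsw : σ.IsSwap := Equiv.Perm.card_support_eq_two.1 (by omega)
        have htop : φ.range = ⊤ := by
          rw [eq_top_iff, ← Equiv.Perm.closure_prime_cycle_swap (by rw [hcW]; norm_num) hcyc hsupp
            hsw, Subgroup.closure_le, Set.insert_subset_iff, Set.singleton_subset_iff]
          exact ⟨⟨y, rfl⟩, ⟨k, rfl⟩⟩
        rw [htop, Subgroup.card_top, Nat.card_eq_fintype_card (α := Equiv.Perm {o // o ∈ W}),
          Fintype.card_perm, hcW, show (5 : ℕ).factorial = 120 from rfl] at hprod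
        have h16 := Nat.le_of_dvd Nat.card_pos (hR ▸ Subgroup.card_dvd_of_le hRker)
        omega
    have h4 : (Y.filter fun z => k • z = z).card = 4 := by
      have h0 := hsplit k
      have h8 := (card_le_card hsub).trans (hO4 x hxY).le
      have hm := D.fix_mod_four ht
      have hp : 0 < (Y.filter fun z => k • z = z).card := card_pos.2 ⟨x, hxk⟩
      change _ = (fix (X := X) t).card at h0
      omega
    have hOx : (Y.filter fun z => k • z = z) = O x :=
      eq_of_subset_of_card_le hsub (by rw [h4, hO4 x hxY])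
    rw [← hOx]
    ext z
    rw [mem_fix, mem_union, mem_filter]
    constructor
    · intro h
      by_cases hz : z ∈ E
      · exact Or.inl hz
      · exact Or.inr ⟨mem_sdiff.2 ⟨mem_univ _, hz⟩, h⟩
    · rintro (h | ⟨-, h⟩)
      · obtain ⟨i, -, rfl⟩ := mem_map.1 h; exact hte i
      · exact h
  refine ⟨E ∪ O x, ?_, fun i => mem_union_left _ (mem_map.2 ⟨i, mem_univ _, rfl⟩),
    mem_union_right _ (hOz x), ?_, huniq⟩
  · rw [card_union_of_disjoint hBdis, hE, hO4 x hxY]
  · have hS4 : St x = 4 := by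
      have := hos x
      rw [hO4 x hxY] at this
      omega
    obtain ⟨r, hr, hr1⟩ := exists_mem_ne (show 1 < (RS.filter fun r => r • x = x).card by
      change 1 < St x; omega) 1
    obtain ⟨hrS, hrx⟩ := mem_filter.1 hr
    have h16 : r ^ 2 ^ 4 = 1 := by
      have := Subgroup.orderOf_dvd_natCard R (mem_filter.1 hrS).2
      rw [hR] at this
      exact orderOf_dvd_iff_pow_eq_one.1 this
    obtain ⟨m, hm⟩ := exists_inv_pow h16 hr1
    have hm' : orderOf ((r ^ m : K) : G) = 2 := by rw [Subgroup.orderOf_coe]; exact hm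
    have hrx' : r ∈ MulAction.stabilizer K x := hrx
    exact ⟨(r ^ m : K), hm', huniq _ hm' (fun i => hKe (r ^ m) i) (pow_mem hrx' m)⟩

end Act

end Cfsg.Agent.Lib.M24Nse52
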